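import Groth.Agent.WittPts.Sub
import Groth.Agent.SGA3cLib.TorusBasic
import Groth.Agent.SGA3cLib.BCPoints

/-!
# Witt group schemes contain no tori
-/

set_option autoImplicit false
set_option linter.style.haveILetI false

universe u

open CategoryTheory CategoryTheory.Limits MonoidalCategory CartesianMonoidalCategory MonObj AlgebraicGeometry

noncomputable section

namespace Groth.Agent.WittPts

theorem fn_single_pow {S : Scheme.{u}} {M : Type} [AddCommGroup M] {X : Over S} (y : X ⟶ Red.DS S M)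
    (g : Multiplicative M) (d : ℕ) :
    SGA3cLib.fn (y ^ (d + 1)) (MonoidAlgebra.single g 1) = SGA3cLib.fn y (MonoidAlgebra.single g 1) ^ (d + 1) := by
  induction d with
  | zero => rw [_root_.pow_one, _root_.pow_one]
  | succ d ih =>
    rw [pow_succ, SGA3cLib.fn_mul_of_groupLike _ _ (by simp [MonoidAlgebra.comul_single]), ih]
    exact (pow_succ _ _).symm

theorem fn_single_one {S : Scheme.{u}} {M : Type} [AddCommGroup M] {X : Over S} (g : Multiplicative M) :
    SGA3cLib.fn (1 : X ⟶ Red.DS S M) (MonoidAlgebra.single g 1) = 1 := by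
  have hu : IsUnit (SGA3cLib.fn (1 : X ⟶ Red.DS S M) (MonoidAlgebra.single g 1)) :=
    (IsUnit.of_mul_eq_one (MonoidAlgebra.single g⁻¹ (1 : ULift.{u} ℤ))
      (by rw [MonoidAlgebra.single_mul_single, mul_inv_cancel, _root_.mul_one, MonoidAlgebra.one_def])).map _
  have h := SGA3cLib.fn_mul_of_groupLike (1 : X ⟶ Red.DS S M) 1 (g := MonoidAlgebra.single g 1)
    (by simp [MonoidAlgebra.comul_single])
  rw [_root_.one_mul] at h
  exact (hu.mul_eq_left).1 h.symm

theorem isIso_DS_hom {S : Scheme.{u}} {M : Type} [AddCommGroup M] [Subsingleton M] : IsIso (Red.DS S M).hom := by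
  haveI : IsIso (Red.diag (ULift.{u} ℤ) M).hom := by
    have hb : Function.Bijective (algebraMap (ULift.{u} ℤ) (MonoidAlgebra (ULift.{u} ℤ) (Multiplicative M))) := by
      refine ⟨fun a b h => ?_, fun z => ⟨z.coeff 1, MonoidAlgebra.ext (Finsupp.ext fun m => ?_)⟩⟩
      · have := congrArg (fun z => z.coeff (1 : Multiplicative M)) h
        simpa [MonoidAlgebra.coe_algebraMap] using this
      · rw [Subsingleton.elim m 1]
        simp [MonoidAlgebra.coe_algebraMap]
    haveI : IsIso (CommRingCat.ofHom (algebraMap (ULift.{u} ℤ) (MonoidAlgebra (ULift.{u} ℤ) (Multiplicative M)))) :=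
      (ConcreteCategory.isIso_iff_bijective _).mpr hb
    exact (inferInstance : IsIso (Spec.map (CommRingCat.ofHom (algebraMap (ULift.{u} ℤ) (MonoidAlgebra (ULift.{u} ℤ) (Multiplicative M))))))
  exact (inferInstance : IsIso (pullback.snd (Red.diag (ULift.{u} ℤ) M).hom (IsTerminal.from specULiftZIsTerminal S)))

theorem isIso_torus_of_killed (p : ℕ) [hp : Fact p.Prime] (k : Type u) [Field k] [IsAlgClosed k] [CharP k p] (n : ℕ)
    {T : Over (Sk k)} [GrpObj T] (hT : Red.IsTorus T)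
    (hkill : ∀ (X : Over (Sk k)) (x : X ⟶ T), x ^ p ^ n = 1) : IsIso T.hom := by
  obtain ⟨S', f, hfl, -, hq, hU⟩ := hT
  choose U hmem r hsplit using hU
  haveI := hfl
  have hcov : TopologicalSpace.IsOpenCover U :=
    TopologicalSpace.IsOpenCover.mk (eq_top_iff.2 fun s _ => TopologicalSpace.Opens.mem_iSup.2 ⟨s, hmem s⟩)
  refine (SGA3cLib.IsFpqcCov.of_forall f hq).descend (MorphismProperty.isomorphisms Scheme.{u}) T.hom ?_
  refine IsZariskiLocalAtTarget.of_openCover (P := MorphismProperty.isomorphisms Scheme.{u})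
    (S'.openCoverOfIsOpenCover U hcov) fun s => ?_
  obtain ⟨e⟩ := hsplit s
  let g := (U s).ι ≫ f
  let w : Red.bc g T ⟶ Red.DS (U s : Scheme.{u}) (Fin (r s) → ℤ) := e.hom.hom.hom
  haveI : IsMonHom w := e.hom.hom.isMonHom_hom
  haveI hwi : IsIso w := ((Grp.forget _).mapIso e).isIso_hom
  have hr : r s = 0 := by
    by_contra hr
    obtain ⟨c, hc⟩ := (Set.toFinite ({0, 1} : Set k)).exists_notMem
    simp only [Set.mem_insert_iff, Set.mem_singleton_iff, not_or] at hc
    let ι₀ : k →+* Γ((U s : Scheme.{u}), ⊤) := ((Scheme.ΓSpecIso (CommRingCat.of k)).inv ≫ g.appTop).hom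
    let a : Γ((U s : Scheme.{u}), ⊤)ˣ := Units.map ι₀.toMonoidHom (Units.mk0 c hc.1)
    let i₀ : Fin (r s) := ⟨0, Nat.pos_of_ne_zero hr⟩
    let χ : Multiplicative (Fin (r s) → ℤ) →* Γ((U s : Scheme.{u}), ⊤) :=
      { toFun := fun v => ((a ^ (Multiplicative.toAdd v i₀) : Γ((U s : Scheme.{u}), ⊤)ˣ) : Γ((U s : Scheme.{u}), ⊤))
        map_one' := by simp
        map_mul' := fun v w => by rw [toAdd_mul, Pi.add_apply, _root_.zpow_add, Units.val_mul] }
    let φ : MonoidAlgebra (ULift.{u} ℤ) (Multiplicative (Fin (r s) → ℤ)) →+* Γ((U s : Scheme.{u}), ⊤) :=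
      MonoidAlgebra.liftNCRingHom ((Int.castRingHom _).comp ULift.ringEquiv.toRingHom) χ fun _ _ => Commute.all _ _
    obtain ⟨y, hy⟩ := SGA3cLib.fn_surjective (X := Over.mk (𝟙 (U s : Scheme.{u}))) (S := (U s : Scheme.{u})) φ
    obtain ⟨z, hz⟩ : ∃ z, z ≫ w = y := ⟨y ≫ inv w, by simp⟩
    have hzk : z ^ p ^ n = 1 := by
      let h : ((Over.map g).obj (Over.mk (𝟙 (U s : Scheme.{u}))) ⟶ T) →* (Over.mk (𝟙 (U s : Scheme.{u})) ⟶ Red.bc g T) :=
        MonoidHom.mk' (SGA3cLib.BCPoints.pt g T _) (SGA3cLib.BCPoints.pt_mul g)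
      obtain ⟨b, hb⟩ : ∃ b, h b = z := (SGA3cLib.BCPoints.pt g T _).surjective z
      rw [← hb, ← map_pow, hkill, map_one]
    haveI hwm : IsMonHom w := e.hom.hom.isMonHom_hom
    have hyk : y ^ p ^ n = 1 := by
      let ψ : (Over.mk (𝟙 (U s : Scheme.{u})) ⟶ Red.bc g T) →*
          (Over.mk (𝟙 (U s : Scheme.{u})) ⟶ Red.DS (U s : Scheme.{u}) (Fin (r s) → ℤ)) :=
        MonoidHom.mk' (fun a => a ≫ w) fun a b => @MonObj.mul_comp _ _ _ _ _ _ _ _ a b w hwm
      rw [← show ψ z = y from hz, ← map_pow, hzk, map_one]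
    let g₀ : Multiplicative (Fin (r s) → ℤ) := Multiplicative.ofAdd (Pi.single i₀ 1)
    have h1 := fn_single_pow y g₀ (p ^ n - 1)
    rw [Nat.sub_add_cancel (Nat.one_le_pow _ _ hp.out.pos), hyk, fn_single_one, hy] at h1
    have h2 : φ (MonoidAlgebra.single g₀ 1) = ι₀ c := by
      simp [φ, χ, g₀, a, MonoidAlgebra.liftNCRingHom]
    rw [h2, ← map_pow] at h1
    haveI : Nonempty (U s : Scheme.{u}) := ⟨⟨s, hmem s⟩⟩
    haveI : Nonempty (⊤ : (U s : Scheme.{u}).Opens) := ⟨⟨⟨s, hmem s⟩, trivial⟩⟩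
    haveI : Nontrivial Γ((U s : Scheme.{u}), ⊤) := Scheme.component_nontrivial _ _
    have h3 : c ^ p ^ n = 1 := ι₀.injective (h1.symm.trans (map_one ι₀).symm)
    exact hc.2 (sub_eq_zero.1 (eq_zero_of_pow_eq_zero
      (show (c - 1) ^ p ^ n = 0 by rw [sub_pow_char_pow, h3, _root_.one_pow, sub_self])))
  haveI : IsEmpty (Fin (r s)) := by rw [hr]; exact Fin.isEmpty'
  haveI : IsIso (Red.DS (U s : Scheme.{u}) (Fin (r s) → ℤ)).hom := isIso_DS_hom
  have h2 : IsIso (Red.bc g T).hom := by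
    rw [← Over.w w]
    haveI : IsIso w.left := ((Over.forget _).mapIso (asIso w)).isIso_hom
    infer_instance
  let i : pullback (pullback.snd T.hom f) (U s).ι ≅ pullback T.hom g := pullbackLeftPullbackSndIso T.hom f (U s).ι
  have hi : i.hom ≫ pullback.snd T.hom g = pullback.snd (pullback.snd T.hom f) (U s).ι :=
    pullbackLeftPullbackSndIso_hom_snd _ _ _
  change IsIso (pullback.snd (pullback.snd T.hom f) (U s).ι)
  rw [← hi]
  haveI : IsIso (pullback.snd T.hom g) := h2
  infer_instance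

theorem hasNoSubtorus_W (p : ℕ) [hp : Fact p.Prime] (k : Type u) [Field k] [IsAlgClosed k] [CharP k p] (n : ℕ) :
    Red.HasNoSubtorus k (Wk p k n) := by
  intro T _ j _ _ hT
  refine isIso_torus_of_killed p k n hT fun X x => (cancel_mono j).mp ?_
  rw [MonObj.pow_comp, MonObj.one_comp]
  refine WittGrp.pts_injective p _ ?_
  beta_reduce
  rw [pts_pow, WittGrp.pts_one]
  rcases subsingleton_or_nontrivial Γ(X.left, ⊤) with hR | hR
  · exact TruncatedWittVector.ext fun i => Subsingleton.elim _ _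
  haveI : CharP Γ(X.left, ⊤) p := (CharP.charP_iff_prime_eq_zero hp.out).mpr (by
    rw [← map_natCast (((Scheme.ΓSpecIso (CommRingCat.of k)).inv ≫ X.hom.appTop).hom) p]
    exact (congrArg _ (CharP.cast_eq_zero k p)).trans (map_zero _))
  exact pow_smul_eq_zero _ le_rfl

end Groth.Agent.WittPts
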