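import Groth.Agent.WittPts.Sub
import Groth.Agent.CommAlg4.WittTwist
import Mathlib.Algebra.Polynomial.Expand
import Mathlib.Algebra.Polynomial.Taylor

/-!
# Homomorphisms between Witt group schemes over an algebraically closed field of characteristic `p`
-/

set_option autoImplicit false
set_option linter.style.haveILetI false

universe u

open CategoryTheory CategoryTheory.Limits MonoidalCategory CartesianMonoidalCategory MonObj AlgebraicGeometry Opposite

noncomputable section

namespace Groth.Agent.WittPts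

section Ring

variable {p : ℕ} [hp : Fact p.Prime] {K : Type*} [Field K] [CharP K p] {n : ℕ}

/-- The `p ^ a`-torsion lies in `V^(n-a)`. -/
theorem lowZero_of_smul_eq_zero (a : ℕ) (v : TruncatedWittVector p n K) (h : p ^ a • v = 0) :
    LowZero (n - a) v := by
  suffices H : ∀ m, m + a ≤ n → LowZero m v by
    rcases Nat.lt_or_ge n a with h' | h'
    · rw [Nat.sub_eq_zero_of_le h'.le]; exact lowZero_zero v
    · exact H (n - a) (by omega)
  intro m
  induction m with
  | zero => exact fun _ => lowZero_zero v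
  | succ m ih =>
    intro hm i hi
    rcases Nat.lt_succ_iff_lt_or_eq.mp hi with hi | hi
    · exact ih (by omega) i hi
    · have h2 := (lowZero_pow_smul (ih (by omega)) a).2 (by omega)
      rw [h, TruncatedWittVector.coeff_zero] at h2
      rw [show i = (⟨m, by omega⟩ : Fin n) from Fin.ext hi]
      exact eq_zero_of_pow_eq_zero h2.symm

/-- `V^(n-1)` is killed by `p`. -/
theorem lowZero_shift {m : ℕ} (h : n ≤ m) (v : TruncatedWittVector p n K) : LowZero (m - n) (WittGrp.shift p h v) :=
  fun i hi => by rw [WittGrp.coeff_shift, dif_neg (by omega)]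

theorem shift_injective {m : ℕ} (h : n ≤ m) :
    Function.Injective (WittGrp.shift p h (R := K)) := fun v w hvw => TruncatedWittVector.ext fun i => by
  have := congrArg (fun z => TruncatedWittVector.coeff (⟨(i : ℕ) + (m - n), by omega⟩ : Fin m) z) hvw
  simp only [WittGrp.coeff_shift, dif_pos (Nat.le_add_left _ _)] at this
  simpa using this

theorem exists_shift_eq {m : ℕ} (h : n ≤ m) {v : TruncatedWittVector p m K} (hv : LowZero (m - n) v) :
    WittGrp.shift p h (TruncatedWittVector.mk p fun i : Fin n => v.coeff ⟨(i : ℕ) + (m - n), by omega⟩) = v :=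
  TruncatedWittVector.ext fun i => by
    rw [WittGrp.coeff_shift]
    split_ifs with hi
    · rw [TruncatedWittVector.coeff_mk]; congr 1; ext; simp; omega
    · exact (hv i (by omega)).symm

end Ring

/-- Additive functions given by polynomials. -/
theorem additive_induction {p : ℕ} [hp : Fact p.Prime] {K : Type*} [Field K] [IsAlgClosed K] [CharP K p]
    (Q : (K → K) → Prop) (hsmul : ∀ a : K, Q fun x => a * x) (hadd : ∀ f g, Q f → Q g → Q fun x => f x + g x)
    (hfrob : ∀ f, Q f → Q fun x => f (x ^ p)) (P : Polynomial K)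
    (hP : ∀ x y, P.eval (x + y) = P.eval x + P.eval y) : Q fun x => P.eval x := by
  haveI := IsAlgClosed.instInfinite (K := K)
  induction hd : P.natDegree using Nat.strong_induction_on generalizing P with
  | _ d ih =>
    subst hd
    let a := (Polynomial.derivative P).eval 0
    have hder : Polynomial.derivative P = Polynomial.C a := by
      refine Polynomial.funext fun r => ?_
      have h : P.comp (Polynomial.X + Polynomial.C r) = P + Polynomial.C (P.eval r) :=
        Polynomial.funext fun x => by simp [hP]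
      have h' := congrArg (fun q => (Polynomial.derivative q).eval 0) h
      simpa [Polynomial.derivative_comp, a] using h'
    let P' := P - Polynomial.C a * Polynomial.X
    have hP' : ∀ x y, P'.eval (x + y) = P'.eval x + P'.eval y := fun x y => by simp [P', hP]; ring
    have hexp : Polynomial.expand K p (Polynomial.contract p P') = P' :=
      Polynomial.expand_contract p (by simp [P', hder]) hp.out.ne_zero
    let P₁ := Polynomial.contract p P'
    have h₁ : ∀ x, P₁.eval (x ^ p) = P'.eval x := fun x => by rw [← Polynomial.expand_eval, hexp]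
    have hP₁ : ∀ x y, P₁.eval (x + y) = P₁.eval x + P₁.eval y := fun x y => by
      obtain ⟨x', rfl⟩ := IsAlgClosed.exists_pow_nat_eq x hp.out.pos
      obtain ⟨y', rfl⟩ := IsAlgClosed.exists_pow_nat_eq y hp.out.pos
      rw [← add_pow_char, h₁, h₁, h₁, hP']
    have hQ₁ : Q fun x => P₁.eval x := by
      by_cases hdeg : P₁.natDegree < P.natDegree
      · exact ih _ hdeg P₁ hP₁ rfl
      have h1 : P'.natDegree = P₁.natDegree * p := by rw [← hexp, Polynomial.natDegree_expand]
      have h2 : P'.natDegree ≤ max P.natDegree 1 :=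
        (Polynomial.natDegree_sub_le _ _).trans (max_le_max le_rfl ((Polynomial.natDegree_C_mul_le a Polynomial.X).trans Polynomial.natDegree_X_le))
      have h3 := hp.out.two_le
      have h0 : P₁.natDegree = 0 := by
        rcases Nat.eq_zero_or_pos P₁.natDegree with h | h
        · exact h
        · have h4 : P₁.natDegree * 2 ≤ P₁.natDegree * p := Nat.mul_le_mul_left _ h3
          omega
      have hc : (fun x => P₁.eval x) = fun x => (0 : K) * x := funext fun x => by
        have hC := Polynomial.eq_C_of_natDegree_eq_zero h0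
        have := hP₁ 0 0
        rw [add_zero, left_eq_add, hC, Polynomial.eval_C] at this
        rw [hC, this, map_zero, Polynomial.eval_zero, zero_mul]
      rw [hc]; exact hsmul 0
    have : (fun x => P.eval x) = fun x => a * x + P₁.eval (x ^ p) := funext fun x => by
      rw [h₁]; simp [P']
    rw [this]
    exact hadd _ _ (hsmul a) (hfrob _ hQ₁)

variable {p : ℕ} [hp : Fact p.Prime] {k : Type u} [Field k] {n m : ℕ}

/-- The effect of a morphism on `k`-points, in Witt vector terms. -/
def ev (f : Wk p k n ⟶ Wk p k m) (v : TruncatedWittVector p n k) : TruncatedWittVector p m k :=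
  kv (Function.surjInv kv_surjective v ≫ f)

theorem kv_comp (f : Wk p k n ⟶ Wk p k m) (x : 𝟙_ (Over (Sk k)) ⟶ Wk p k n) : kv (x ≫ f) = ev f (kv x) := by
  rw [ev, show Function.surjInv kv_surjective (kv x) = x from kv_injective (Function.surjInv_eq _ _)]

theorem ev_add (f : Wk p k n ⟶ Wk p k m) [IsMonHom f] (v w : TruncatedWittVector p n k) :
    ev f (v + w) = ev f v + ev f w := by
  obtain ⟨x, rfl⟩ := kv_surjective v
  obtain ⟨y, rfl⟩ := kv_surjective w
  rw [← kv_mul, ← kv_comp, ← kv_comp, ← kv_comp, MonObj.mul_comp, kv_mul]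

/-- A homomorphism on `k`-points. -/
def evHom (f : Wk p k n ⟶ Wk p k m) [IsMonHom f] : TruncatedWittVector p n k →+ TruncatedWittVector p m k :=
  AddMonoidHom.mk' (ev f) (ev_add f)

theorem ev_id (v : TruncatedWittVector p n k) : ev (𝟙 (Wk p k n)) v = v := by
  rw [ev, Category.comp_id]; exact Function.surjInv_eq kv_surjective v

theorem ev_comp {l : ℕ} (f : Wk p k n ⟶ Wk p k m) (g : Wk p k m ⟶ Wk p k l) (v : TruncatedWittVector p n k) :
    ev (f ≫ g) v = ev g (ev f v) := by
  obtain ⟨x, rfl⟩ := kv_surjective v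
  rw [← kv_comp, ← kv_comp, ← kv_comp, Category.assoc]

theorem ev_R (h : n ≤ m) (v : TruncatedWittVector p m k) :
    ev (WittGrp.R p (Sk k) h) v = TruncatedWittVector.truncate h v := by
  obtain ⟨x, rfl⟩ := kv_surjective v
  rw [← kv_comp, kv_R]

theorem ev_V (h : n ≤ m) (v : TruncatedWittVector p n k) :
    ev (WittGrp.V p (Sk k) h) v = WittGrp.shift p h v := by
  obtain ⟨x, rfl⟩ := kv_surjective v
  rw [← kv_comp, kv_V]

theorem coeff_ev_F (hp0 : (p : Γ(Sk k, ⊤)) = 0) (v : TruncatedWittVector p n k) (i : Fin n) :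
    (ev (WittGrp.F p n (Sk k) hp0) v).coeff i = v.coeff i ^ p := by
  obtain ⟨x, rfl⟩ := kv_surjective v
  rw [← kv_comp, coeff_kv_F]

theorem coeff_ev_homOfPoly (P : Fin m → MvPolynomial (Fin n) k) (v : TruncatedWittVector p n k) (i : Fin m) :
    (ev (homOfPoly (p := p) P) v).coeff i = MvPolynomial.eval (fun j => v.coeff j) (P i) := by
  obtain ⟨x, rfl⟩ := kv_surjective v
  rw [← kv_comp, coeff_kv_homOfPoly]

theorem ev_mul (f g : Wk p k n ⟶ Wk p k m) (v : TruncatedWittVector p n k) : ev (f * g) v = ev f v + ev g v := by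
  obtain ⟨x, rfl⟩ := kv_surjective v
  rw [← kv_comp, ← kv_comp, ← kv_comp, MonObj.comp_mul, kv_mul]

theorem ev_one (v : TruncatedWittVector p n k) : ev (1 : Wk p k n ⟶ Wk p k m) v = 0 := by
  obtain ⟨x, rfl⟩ := kv_surjective v
  rw [← kv_comp, MonObj.comp_one, kv_one]

variable [IsAlgClosed k]

theorem ext_ev {f g : Wk p k n ⟶ Wk p k m} (h : ∀ v, ev f v = ev g v) : f = g :=
  hom_ext_kv fun x => by rw [kv_comp, kv_comp, h]

theorem isMonHom_of_ev (f : Wk p k n ⟶ Wk p k m) (h : ∀ v w, ev f (v + w) = ev f v + ev f w) : IsMonHom f :=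
  isMonHom_of_kv f fun x y => by rw [kv_comp, kv_comp, kv_comp, kv_mul, h]

theorem isMonHom_mul (f g : Wk p k n ⟶ Wk p k m) [IsMonHom f] [IsMonHom g] : IsMonHom (f * g) :=
  isMonHom_of_ev _ fun v w => by rw [ev_mul, ev_mul, ev_mul, ev_add, ev_add]; abel

/-- Zero-padding section of `R`. -/
def pad (p : ℕ) [Fact p.Prime] (k : Type u) [Field k] {n m : ℕ} (_ : n ≤ m) : Wk p k n ⟶ Wk p k m :=
  homOfPoly fun i => if hi : (i : ℕ) < n then MvPolynomial.X ⟨i, hi⟩ else 0

omit [IsAlgClosed k] in
theorem truncate_pad (h : n ≤ m) (v : TruncatedWittVector p n k) :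
    TruncatedWittVector.truncate h (ev (pad p k h) v) = v :=
  TruncatedWittVector.ext fun i => by
    rw [TruncatedWittVector.coeff_truncate, pad, coeff_ev_homOfPoly, dif_pos (by simp), MvPolynomial.eval_X]
    rfl

variable [CharP k p]

/-- `V^a` is made of multiples of `p ^ a`. -/
theorem exists_smul_eq (a : ℕ) {v : TruncatedWittVector p n k} (hv : LowZero a v) :
    ∃ w, p ^ a • w = v := by
  refine mem_of_lowZero (nsmulAddMonoidHom (α := TruncatedWittVector p n k) (p ^ a)).range a ?_ ?_ v hv
  · rintro _ ⟨w, rfl⟩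
    have := (lowZero_pow_smul (lowZero_zero w) a).1
    simpa using this
  · intro ha c
    obtain ⟨d, hd⟩ := IsAlgClosed.exists_pow_nat_eq c (pow_pos hp.out.pos a)
    let w : TruncatedWittVector p n k := TruncatedWittVector.mk p fun _ => d
    refine ⟨_, ⟨w, rfl⟩, ?_⟩
    have h2 := (lowZero_pow_smul (lowZero_zero w) a).2 (by omega)
    simp only [Nat.zero_add] at h2
    change (p ^ a • w).coeff ⟨a, ha⟩ = c
    rw [h2, TruncatedWittVector.coeff_mk, hd]

/-- A homomorphism into `W_c` factors through restriction to `W_a` for `c ≤ a`. -/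
theorem exists_factor_R {a b c : ℕ} (hab : a ≤ b) (hca : c ≤ a) (f : Wk p k b ⟶ Wk p k c) [IsMonHom f] :
    ∃ g : Wk p k a ⟶ Wk p k c, IsMonHom g ∧ WittGrp.R p (Sk k) hab ≫ g = f := by
  have key : ∀ v w, TruncatedWittVector.truncate hab v = TruncatedWittVector.truncate hab w → ev f v = ev f w := by
    intro v w hvw
    have hz : LowZero a (v - w) := fun i hi => by
      have := congrArg (fun z => TruncatedWittVector.coeff (⟨i, hi⟩ : Fin a) z) (sub_eq_zero.2 hvw)
      simp only [← map_sub, TruncatedWittVector.coeff_truncate, TruncatedWittVector.coeff_zero] at this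
      exact this
    obtain ⟨u, hu⟩ := exists_smul_eq a hz
    have h0 : ev f (v - w) = 0 := by
      rw [← hu]
      exact (map_nsmul (evHom f) _ u).trans (pow_smul_eq_zero _ hca)
    calc ev f v = ev f (v - w + w) := by rw [sub_add_cancel]
      _ = ev f w := by rw [ev_add, h0, zero_add]
  refine ⟨pad p k hab ≫ f, isMonHom_of_ev _ fun v w => ?_, ext_ev fun v => ?_⟩
  · rw [ev_comp, ev_comp, ev_comp, ← ev_add]
    exact key _ _ (by rw [map_add, truncate_pad, truncate_pad, truncate_pad])
  · rw [ev_comp, ev_comp, ev_R]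
    exact key _ _ (truncate_pad hab _)

/-- A homomorphism with values in `V^(b-c)` factors through the shift. -/
theorem exists_factor_V_of_lowZero {a b c : ℕ} (hcb : c ≤ b) (f : Wk p k a ⟶ Wk p k b) [IsMonHom f]
    (h : ∀ v, LowZero (b - c) (ev f v)) :
    ∃ g : Wk p k a ⟶ Wk p k c, IsMonHom g ∧ g ≫ WittGrp.V p (Sk k) hcb = f := by
  let π : Wk p k b ⟶ Wk p k c := homOfPoly fun i => MvPolynomial.X ⟨(i : ℕ) + (b - c), by omega⟩
  have hπ : ∀ v, WittGrp.shift p hcb (ev (f ≫ π) v) = ev f v := fun v => by
    conv_rhs => rw [← exists_shift_eq hcb (h v)]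
    congr 1
    refine TruncatedWittVector.ext fun i => ?_
    rw [ev_comp, TruncatedWittVector.coeff_mk, coeff_ev_homOfPoly, MvPolynomial.eval_X]
  refine ⟨f ≫ π, isMonHom_of_ev _ fun v w => shift_injective hcb ?_, ext_ev fun v => ?_⟩
  · rw [map_add, hπ, hπ, hπ, ev_add]
  · rw [ev_comp, ev_V, hπ]

/-- A homomorphism out of `W_a` factors through the shift from `W_c` for `a ≤ c`. -/
theorem exists_factor_V {a b c : ℕ} (hcb : c ≤ b) (hac : a ≤ c) (f : Wk p k a ⟶ Wk p k b) [IsMonHom f] :
    ∃ g : Wk p k a ⟶ Wk p k c, IsMonHom g ∧ g ≫ WittGrp.V p (Sk k) hcb = f :=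
  exists_factor_V_of_lowZero hcb f fun v i hi => lowZero_of_smul_eq_zero a _
    ((map_nsmul (evHom f) _ v).symm.trans ((congrArg (evHom f) (pow_smul_eq_zero v le_rfl)).trans (map_zero _))) i
    (by omega)

theorem cancel_R (h : n ≤ m) {l : ℕ} {g g' : Wk p k n ⟶ Wk p k l}
    (e : WittGrp.R p (Sk k) h ≫ g = WittGrp.R p (Sk k) h ≫ g') : g = g' :=
  ext_ev fun v => by
    have := congrArg (fun f => ev f (ev (pad p k h) v)) e
    simpa only [ev_comp, ev_R, truncate_pad] using this

theorem cancel_V (h : n ≤ m) {l : ℕ} {g g' : Wk p k l ⟶ Wk p k n}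
    (e : g ≫ WittGrp.V p (Sk k) h = g' ≫ WittGrp.V p (Sk k) h) : g = g' :=
  ext_ev fun v => shift_injective h (by
    have := congrArg (fun f => ev f v) e
    simpa only [ev_comp, ev_V] using this)

end Groth.Agent.WittPts
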