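import Groth.Prelude.Def_WittGrp
import Mathlib.AlgebraicGeometry.Morphisms.Flat
import Mathlib.AlgebraicGeometry.Morphisms.ClosedImmersion
import Mathlib.CategoryTheory.Limits.Shapes.Pullback.IsPullback.Basic

/-!
# Formal properties of the maps `R`, `V`, `F` of Witt group schemes over an arbitrary base
-/

set_option autoImplicit false

universe u

open CategoryTheory CategoryTheory.Limits MonoidalCategory CartesianMonoidalCategory MonObj AlgebraicGeometry Opposite

noncomputable section

namespace Groth.Agent.WittPts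

section Ring

variable {p : ℕ} [Fact p.Prime] {R : Type*} [CommRing R] {n : ℕ}

theorem coeff_add_zero (x y : TruncatedWittVector p n R) (h : 0 < n) :
    (x + y).coeff ⟨0, h⟩ = x.coeff ⟨0, h⟩ + y.coeff ⟨0, h⟩ := by
  obtain ⟨X, rfl⟩ := WittVector.truncate_surjective p n R x
  obtain ⟨Y, rfl⟩ := WittVector.truncate_surjective p n R y
  rw [← map_add, WittVector.coeff_truncate, WittVector.coeff_truncate, WittVector.coeff_truncate]
  exact WittVector.add_coeff_zero X Y

/-- `V` followed by restriction after Frobenius is multiplication by `p`. -/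
theorem truncate_shift_frob (hp : (p : R) = 0) (x : TruncatedWittVector p n R) :
    TruncatedWittVector.truncate (Nat.le_add_right n 1) (WittGrp.shift p (Nat.le_add_right n 1)
      (WittGrp.frob p n hp x)) = p • x := by
  rcases subsingleton_or_nontrivial R with hR | hR
  · exact TruncatedWittVector.ext fun i => Subsingleton.elim _ _
  haveI : CharP R p := (CharP.charP_iff_prime_eq_zero Fact.out).mpr hp
  obtain ⟨X, rfl⟩ := WittVector.truncate_surjective p n R x
  rw [WittGrp.frob_truncate, WittGrp.shift_truncate, TruncatedWittVector.truncate_wittVector_truncate,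
    ← map_nsmul, Nat.add_sub_cancel_left, Function.iterate_one, WittVector.verschiebung_frobenius,
    nsmul_eq_mul, mul_comm]

end Ring

variable {p : ℕ} [Fact p.Prime] {S : Scheme.{u}} {n m : ℕ}

theorem pts_ext {T : Over S} {x y : T ⟶ WittGrp.W p n S}
    (h : ∀ i, (WittGrp.pts p T (Additive.ofMul x)).coeff i = (WittGrp.pts p T (Additive.ofMul y)).coeff i) : x = y :=
  WittGrp.pts_injective p T (TruncatedWittVector.ext h)

theorem pts_pow {T : Over S} (x : T ⟶ WittGrp.W p n S) (d : ℕ) :
    WittGrp.pts p T (Additive.ofMul (x ^ d)) = d • WittGrp.pts p T (Additive.ofMul x) := by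
  rw [ofMul_pow, map_nsmul]

/-- The point with given components. -/
def ofCoeffs {T : Over S} (c : Fin n → Γ(T.left, ⊤)) : T ⟶ WittGrp.W p n S :=
  (WittGrp.ptsMul p T).symm (Multiplicative.ofAdd (TruncatedWittVector.mk p c))

theorem coeff_ofCoeffs {T : Over S} (c : Fin n → Γ(T.left, ⊤)) (i : Fin n) :
    (WittGrp.pts p T (Additive.ofMul (ofCoeffs (p := p) c))).coeff i = c i := by
  change (Multiplicative.toAdd (WittGrp.ptsMul p T ((WittGrp.ptsMul p T).symm _))).coeff i = _
  rw [MulEquiv.apply_symm_apply, toAdd_ofAdd, TruncatedWittVector.coeff_mk]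

theorem coeff_comp {T T' : Over S} (g : T' ⟶ T) (x : T ⟶ WittGrp.W p n S) (i : Fin n) :
    (WittGrp.pts p T' (Additive.ofMul (g ≫ x))).coeff i =
      g.left.appTop ((WittGrp.pts p T (Additive.ofMul x)).coeff i) := by
  rw [WittGrp.pts_comp, WittGrp.coeff_truncMap]

theorem coeff_comp_R (h : n ≤ m) {T : Over S} (x : T ⟶ WittGrp.W p m S) (i : Fin n) :
    (WittGrp.pts p T (Additive.ofMul (x ≫ WittGrp.R p S h))).coeff i =
      (WittGrp.pts p T (Additive.ofMul x)).coeff (Fin.castLE h i) := by
  rw [WittGrp.pts_R, TruncatedWittVector.coeff_truncate]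

theorem coeff_comp_V (h : n ≤ m) {T : Over S} (x : T ⟶ WittGrp.W p n S) (i : Fin m) :
    (WittGrp.pts p T (Additive.ofMul (x ≫ WittGrp.V p S h))).coeff i =
      if hi : m - n ≤ (i : ℕ) then (WittGrp.pts p T (Additive.ofMul x)).coeff ⟨i - (m - n), by omega⟩ else 0 := by
  rw [WittGrp.pts_V, WittGrp.coeff_shift]

/-- The last `m` coordinates. -/
def tail (p : ℕ) [Fact p.Prime] (S : Scheme.{u}) (n m : ℕ) : WittGrp.W p (n + m) S ⟶ WittGrp.W p m S :=
  ofCoeffs fun j => (WittGrp.pts p _ (Additive.ofMul (𝟙 (WittGrp.W p (n + m) S)))).coeff (Fin.natAdd n j)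

theorem coeff_comp_tail {T : Over S} (x : T ⟶ WittGrp.W p (n + m) S) (j : Fin m) :
    (WittGrp.pts p T (Additive.ofMul (x ≫ tail p S n m))).coeff j =
      (WittGrp.pts p T (Additive.ofMul x)).coeff (Fin.natAdd n j) := by
  rw [coeff_comp, tail, coeff_ofCoeffs, ← coeff_comp, Category.comp_id]

/-- Concatenation of coordinates. -/
def glue (p : ℕ) [Fact p.Prime] (S : Scheme.{u}) (n m : ℕ) :
    WittGrp.W p n S ⊗ WittGrp.W p m S ⟶ WittGrp.W p (n + m) S :=
  ofCoeffs (Fin.addCases (fun i => (WittGrp.pts p _ (Additive.ofMul (fst (WittGrp.W p n S) (WittGrp.W p m S)))).coeff i)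
    fun j => (WittGrp.pts p _ (Additive.ofMul (snd (WittGrp.W p n S) (WittGrp.W p m S)))).coeff j)

/-- `W_{n+m} ≅ W_n × W_m` as schemes. -/
def splitIso (p : ℕ) [Fact p.Prime] (S : Scheme.{u}) (n m : ℕ) :
    WittGrp.W p (n + m) S ≅ WittGrp.W p n S ⊗ WittGrp.W p m S where
  hom := lift (WittGrp.R p S (Nat.le_add_right n m)) (tail p S n m)
  inv := glue p S n m
  hom_inv_id := pts_ext fun i => by
    rw [coeff_comp, glue, coeff_ofCoeffs]
    induction i using Fin.addCases with
    | left i =>
      rw [Fin.addCases_left, ← coeff_comp, lift_fst, ← Category.id_comp (WittGrp.R p S _), coeff_comp_R]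
      rfl
    | right j =>
      rw [Fin.addCases_right, ← coeff_comp, lift_snd, ← Category.id_comp (tail p S n m), coeff_comp_tail]
  inv_hom_id := by
    rw [comp_lift]
    conv_rhs => rw [← lift_fst_snd]
    congr 1 <;> refine pts_ext fun i => ?_
    · rw [coeff_comp_R, glue, coeff_ofCoeffs]
      exact Fin.addCases_left _
    · rw [coeff_comp_tail, glue, coeff_ofCoeffs, Fin.addCases_right]

theorem V_tail : WittGrp.V p S (Nat.le_add_left m n) ≫ tail p S n m = 𝟙 _ := by
  refine pts_ext fun j => ?_
  rw [coeff_comp_tail, ← Category.id_comp (WittGrp.V p S _), coeff_comp_V, dif_pos (by simp)]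
  congr 1
  ext
  simp

theorem flat_over : Flat (𝔸(ULift.{u} (Fin n); S) ↘ S) := by
  refine MorphismProperty.pullback_fst (P := @Flat) _ _ ?_
  have := isIso_of_isTerminal specULiftZIsTerminal.{u} terminalIsTerminal (terminal.from _)
  rw [← terminal.comp_from (Spec.map (CommRingCat.ofHom MvPolynomial.C)),
    MorphismProperty.cancel_right_of_respectsIso (P := @Flat), HasRingHomProperty.Spec_iff (P := @Flat)]
  exact RingHom.flat_algebraMap_iff.mpr (inferInstance : Module.Flat (ULift.{u} ℤ) (MvPolynomial (ULift.{u} (Fin n)) (ULift.{u} ℤ)))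

theorem isClosedImmersion_V : IsClosedImmersion (WittGrp.V p S (Nat.le_add_left m n)).left := by
  haveI : IsSeparated (WittGrp.W p (n + m) S).hom :=
    inferInstanceAs (IsSeparated (𝔸(ULift.{u} (Fin (n + m)); S) ↘ S))
  haveI : IsSeparated ((tail p S n m).left ≫ (WittGrp.W p m S).hom) := by rw [Over.w]; infer_instance
  haveI : IsSeparated (tail p S n m).left := IsSeparated.of_comp (tail p S n m).left (WittGrp.W p m S).hom
  haveI : IsClosedImmersion ((WittGrp.V p S (Nat.le_add_left m n)).left ≫ (tail p S n m).left) := by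
    rw [← Over.comp_left, V_tail, Over.id_left]; infer_instance
  exact IsClosedImmersion.of_comp _ (tail p S n m).left

theorem flat_surjective_R : Flat (WittGrp.R p S (Nat.le_add_right n m)).left ∧
    Surjective (WittGrp.R p S (Nat.le_add_right n m)).left := by
  have h : WittGrp.R p S (Nat.le_add_right n m) = (splitIso p S n m).hom ≫ fst _ _ := (lift_fst _ _).symm
  rw [h, Over.comp_left]
  haveI : IsIso (splitIso p S n m).hom.left := ((Over.forget S).mapIso (splitIso p S n m)).isIso_hom
  haveI : Flat (fst (WittGrp.W p n S) (WittGrp.W p m S)).left :=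
    MorphismProperty.pullback_fst (P := @Flat) _ _ flat_over
  haveI : Surjective (fst (WittGrp.W p n S) (WittGrp.W p m S)).left :=
    MorphismProperty.pullback_fst (P := @Surjective) _ _
      (inferInstanceAs (Surjective (𝔸(ULift.{u} (Fin m); S) ↘ S)))
  exact ⟨inferInstance, inferInstance⟩

theorem isPullback_V_R : IsPullback (WittGrp.V p S (Nat.le_add_left m n)) (toUnit _)
    (WittGrp.R p S (Nat.le_add_right n m)) η[WittGrp.W p n S] := by
  have hw : WittGrp.V p S (Nat.le_add_left m n) ≫ WittGrp.R p S (Nat.le_add_right n m) =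
      toUnit _ ≫ η[WittGrp.W p n S] := by
    refine pts_ext fun i => ?_
    rw [coeff_comp_R, ← Category.id_comp (WittGrp.V p S _), coeff_comp_V, dif_neg (by simp)]
    rw [show toUnit _ ≫ η[WittGrp.W p n S] = 1 from rfl, WittGrp.pts_one, TruncatedWittVector.coeff_zero]
  refine IsPullback.of_isLimit (c := PullbackCone.mk _ _ hw) (PullbackCone.IsLimit.mk hw
    (fun s => s.fst ≫ tail p S n m) (fun s => ?_) (fun s => toUnit_unique _ _) (fun s q hq _ => ?_))
  · refine pts_ext fun i => ?_
    rw [coeff_comp_V]
    induction i using Fin.addCases with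
    | left i =>
      rw [dif_neg (by simp)]
      have h := congrArg (fun z => (WittGrp.pts p s.pt (Additive.ofMul z)).coeff i) s.condition
      simp only [coeff_comp_R] at h
      rw [toUnit_unique s.snd (toUnit _), show toUnit s.pt ≫ η[WittGrp.W p n S] = 1 from rfl, WittGrp.pts_one,
        TruncatedWittVector.coeff_zero] at h
      exact h.symm
    | right j =>
      rw [dif_pos (by simp), coeff_comp_tail]
      congr 1
      ext
      simp
  · rw [← hq, Category.assoc, V_tail, Category.comp_id]

end Groth.Agent.WittPts
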