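import Groth.Agent.WittPts.Basic
import Groth.Agent.WittPts.Formal
import Groth.Agent.HopfLib.GITPoints
import Groth.Agent.AlgGrpLib.PointsDense
import Mathlib.RingTheory.WittVector.Identities
import Mathlib.FieldTheory.IsAlgClosed.Basic

/-!
# Connected smooth subgroups of Witt group schemes over an algebraically closed field
-/

set_option autoImplicit false

universe u

open CategoryTheory CategoryTheory.Limits MonoidalCategory CartesianMonoidalCategory MonObj AlgebraicGeometry Opposite

noncomputable section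

namespace Groth.Agent.WittPts

section Ring

variable {p : ℕ} [hp : Fact p.Prime] {K : Type*} [CommRing K] {n : ℕ}

/-- The first `m` components vanish. -/
def LowZero (m : ℕ) (v : TruncatedWittVector p n K) : Prop := ∀ i : Fin n, (i : ℕ) < m → v.coeff i = 0

theorem lowZero_zero (v : TruncatedWittVector p n K) : LowZero 0 v := fun _ h => absurd h (Nat.not_lt_zero _)

theorem eq_zero_of_lowZero {v : TruncatedWittVector p n K} {m : ℕ} (hm : n ≤ m) (h : LowZero m v) : v = 0 :=
  TruncatedWittVector.ext fun i => by rw [h i (lt_of_lt_of_le i.2 hm), TruncatedWittVector.coeff_zero]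

theorem exists_iterate_verschiebung {m : ℕ} {v : TruncatedWittVector p n K} (h : LowZero m v) :
    ∃ X : WittVector p K, WittVector.truncate n (WittVector.verschiebung^[m] X) = v := by
  refine ⟨WittVector.mk p fun i => if hi : i + m < n then v.coeff ⟨i + m, hi⟩ else 0, TruncatedWittVector.ext fun i => ?_⟩
  rw [WittVector.coeff_truncate]
  rcases lt_or_ge (i : ℕ) m with hi | hi
  · rw [WittVector.iterate_verschiebung_coeff_eq_zero _ hi, h i hi]
  · conv_lhs => rw [show (i : ℕ) = ((i : ℕ) - m) + m by omega]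
    rw [WittVector.iterate_verschiebung_coeff, WittVector.coeff_mk, dif_pos (by omega)]
    congr 1
    ext
    simp only
    omega

theorem lowZero_add {m : ℕ} {v w : TruncatedWittVector p n K} (hv : LowZero m v) (hw : LowZero m w) :
    LowZero m (v + w) ∧ ∀ hm : m < n, (v + w).coeff ⟨m, hm⟩ = v.coeff ⟨m, hm⟩ + w.coeff ⟨m, hm⟩ := by
  obtain ⟨X, rfl⟩ := exists_iterate_verschiebung hv
  obtain ⟨Y, rfl⟩ := exists_iterate_verschiebung hw
  rw [← map_add, ← iterate_map_add]
  refine ⟨fun i hi => ?_, fun hm => ?_⟩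
  · rw [WittVector.coeff_truncate, WittVector.iterate_verschiebung_coeff_eq_zero _ hi]
  · simp only [WittVector.coeff_truncate]
    have : ∀ Z : WittVector p K, (WittVector.verschiebung^[m] Z).coeff m = Z.coeff 0 := fun Z => by
      simpa using WittVector.iterate_verschiebung_coeff Z m 0
    rw [this, this, this]
    exact WittVector.add_coeff_zero X Y

theorem lowZero_neg {m : ℕ} {v : TruncatedWittVector p n K} (hv : LowZero m v) : LowZero m (-v) := by
  obtain ⟨X, rfl⟩ := exists_iterate_verschiebung hv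
  rw [← map_neg, ← iterate_map_neg]
  intro i hi
  rw [WittVector.coeff_truncate, WittVector.iterate_verschiebung_coeff_eq_zero _ hi]

theorem coeff_neg_lowZero {m : ℕ} {v : TruncatedWittVector p n K} (hv : LowZero m v) (hm : m < n) :
    (-v).coeff ⟨m, hm⟩ = -v.coeff ⟨m, hm⟩ := by
  have h := (lowZero_add hv (lowZero_neg hv)).2 hm
  rw [add_neg_cancel, TruncatedWittVector.coeff_zero] at h
  exact eq_neg_of_add_eq_zero_right h.symm

variable [CharP K p]

theorem lowZero_pow_smul {m : ℕ} {v : TruncatedWittVector p n K} (hv : LowZero m v) (d : ℕ) :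
    LowZero (m + d) (p ^ d • v) ∧ ∀ hm : m + d < n, (p ^ d • v).coeff ⟨m + d, hm⟩ =
      v.coeff ⟨m, by omega⟩ ^ p ^ d := by
  obtain ⟨X, rfl⟩ := exists_iterate_verschiebung hv
  have h : p ^ d • WittVector.truncate n (WittVector.verschiebung^[m] X) =
      WittVector.truncate n (WittVector.verschiebung^[m] X * (p : WittVector p K) ^ d) := by
    rw [← map_nsmul, nsmul_eq_mul, Nat.cast_pow, mul_comm]
  rw [h]
  refine ⟨fun i hi => ?_, fun hm => ?_⟩
  · rw [WittVector.coeff_truncate]
    rcases lt_or_ge (i : ℕ) d with hd | hd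
    · exact WittVector.mul_pow_charP_coeff_zero _ hd
    · rw [show (i : ℕ) = ((i : ℕ) - d) + d by omega, WittVector.mul_pow_charP_coeff_succ,
        WittVector.iterate_verschiebung_coeff_eq_zero _ (by omega), zero_pow (pow_pos hp.out.pos d).ne']
  · simp only [WittVector.coeff_truncate, WittVector.mul_pow_charP_coeff_succ]

theorem pow_smul_eq_zero (v : TruncatedWittVector p n K) {d : ℕ} (hd : n ≤ d) : p ^ d • v = 0 :=
  eq_zero_of_lowZero (by omega) (lowZero_pow_smul (lowZero_zero v) d).1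

end Ring

section Closure

variable {p : ℕ} [hp : Fact p.Prime] {K : Type*} [Field K] [IsAlgClosed K] [CharP K p] {n : ℕ}

/-- A subgroup inside `V^m` whose `m`-th components cover everything is all of `V^m`. -/
theorem mem_of_lowZero (A : AddSubgroup (TruncatedWittVector p n K)) (m : ℕ) (hA : ∀ v ∈ A, LowZero m v)
    (hs : ∀ (hm : m < n) (c : K), ∃ v ∈ A, v.coeff ⟨m, hm⟩ = c) :
    ∀ w : TruncatedWittVector p n K, LowZero m w → w ∈ A := by
  suffices H : ∀ d j, m ≤ j → n ≤ j + d → ∀ w : TruncatedWittVector p n K, LowZero j w → w ∈ A from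
    fun w hw => H n m le_rfl (by omega) w hw
  intro d
  induction d with
  | zero => exact fun j _ hj w hw => by rw [eq_zero_of_lowZero (by omega) hw]; exact A.zero_mem
  | succ d ih =>
    intro j hmj hj w hw
    by_cases hjn : n ≤ j
    · rw [eq_zero_of_lowZero hjn hw]; exact A.zero_mem
    obtain ⟨c, hc⟩ := IsAlgClosed.exists_pow_nat_eq (w.coeff ⟨j, by omega⟩) (pow_pos hp.out.pos (j - m))
    obtain ⟨v, hv, hvc⟩ := hs (by omega) c
    obtain ⟨h1, h2⟩ := lowZero_pow_smul (hA v hv) (j - m)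
    rw [show m + (j - m) = j by omega] at h1
    have h3 : (p ^ (j - m) • v).coeff ⟨j, by omega⟩ = w.coeff ⟨j, by omega⟩ := by
      have h2' := h2 (by omega)
      simp only [show m + (j - m) = j by omega] at h2'
      rw [h2', hvc, hc]
    have hmem : p ^ (j - m) • v ∈ A := A.nsmul_mem hv _
    suffices w + -(p ^ (j - m) • v) ∈ A by simpa using A.add_mem this hmem
    refine ih (j + 1) (by omega) (by omega) _ fun i hi => ?_
    rcases Nat.lt_succ_iff_lt_or_eq.mp hi with hi | hi
    · exact (lowZero_add hw (lowZero_neg h1)).1 i hi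
    · have hij : i = (⟨j, by omega⟩ : Fin n) := Fin.ext hi
      rw [hij, (lowZero_add hw (lowZero_neg h1)).2 (by omega), coeff_neg_lowZero h1, h3, add_neg_cancel]

end Closure

variable (k : Type u) [Field k]

/-- `Spec k` as the test object of `PointsDense` is the unit object. -/
def ptIso : 𝟙_ (Over (Sk k)) ≅ AlgGrpLib.PointsDense.spK k k :=
  Over.isoMk (Iso.refl _) (by
    simp only [Iso.refl_hom, Category.id_comp]
    exact Spec.map_id _)

/-- Factorisation through a closed subscheme tested on `k`-points. -/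
theorem exists_factor [IsAlgClosed k] {W G H : Over (Sk k)} [LocallyOfFiniteType W.hom] [IsReduced W.left]
    (f : W ⟶ G) (i : H ⟶ G) [IsClosedImmersion i.left]
    (h : ∀ x : 𝟙_ (Over (Sk k)) ⟶ W, ∃ y : 𝟙_ (Over (Sk k)) ⟶ H, y ≫ i = x ≫ f) : ∃ l : W ⟶ H, l ≫ i = f :=
  AlgGrpLib.PointsDense.exists_factor_of_points_algClosed k k f i fun x => by
    obtain ⟨y, hy⟩ := h ((ptIso k).hom ≫ x)
    exact ⟨(ptIso k).inv ≫ y, by rw [Category.assoc, hy]; simp⟩

variable [IsAlgClosed k]

/-- A function on a connected affine scheme of finite type takes one or cofinitely many values on `k`-points. -/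
theorem values_dichotomy (X : Over (Sk k)) [IsAffine X.left] [LocallyOfFiniteType X.hom] [ConnectedSpace X.left]
    (z : Γ(X.left, ⊤)) :
    (∃ c, ∀ x : 𝟙_ (Over (Sk k)) ⟶ X, Γk k (x.left.appTop z) = c) ∨
      ∃ g : Polynomial k, g ≠ 0 ∧ ∀ c, g.eval c ≠ 0 → ∃ x : 𝟙_ (Over (Sk k)) ⟶ X, Γk k (x.left.appTop z) = c := by
  let ψ : CommRingCat.of k ⟶ Γ(X.left, ⊤) := (Scheme.ΓSpecIso _).inv ≫ X.hom.appTop
  letI : Algebra k Γ(X.left, ⊤) := ψ.hom.toAlgebra
  have hψ : X.left.isoSpec.inv ≫ X.hom = Spec.map ψ := by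
    rw [Iso.inv_comp_eq, Spec.map_comp]
    erw [Scheme.isoSpec_hom_naturality_assoc]
    simp [← Spec.map_comp, Scheme.isoSpec_Spec_hom]
  haveI : Algebra.FiniteType k Γ(X.left, ⊤) :=
    (HasRingHomProperty.Spec_iff (P := @LocallyOfFiniteType) (φ := ψ)).mp (by rw [← hψ]; infer_instance)
  have hpt : ∀ a : Γ(X.left, ⊤) →ₐ[k] k, ∃ x : 𝟙_ (Over (Sk k)) ⟶ X, Γk k (x.left.appTop z) = a z := fun a => by
    refine ⟨Over.homMk (Spec.map (CommRingCat.ofHom a.toRingHom) ≫ X.left.isoSpec.inv) ?_, ?_⟩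
    · rw [Category.assoc, hψ, ← Spec.map_comp]
      rw [show ψ ≫ CommRingCat.ofHom a.toRingHom = 𝟙 _ from CommRingCat.hom_ext a.comp_algebraMap]
      exact Spec.map_id _
    · show Γk k ((Spec.map (CommRingCat.ofHom a.toRingHom) ≫ X.left.isoSpec.inv).appTop z) = a z
      have hinv : X.left.isoSpec.inv.appTop = (Scheme.ΓSpecIso Γ(X.left, ⊤)).inv := by
        haveI : IsIso X.left.isoSpec.hom.appTop := (inferInstance : IsIso (X.left.isoSpec.hom.app ⊤))
        rw [← cancel_mono (X.left.isoSpec.hom.appTop), ← Scheme.Hom.comp_appTop]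
        simp [Scheme.isoSpec]
      rw [Scheme.Hom.comp_appTop, CommRingCat.comp_apply, hinv]
      exact congrArg (fun m : Γ(X.left, ⊤) ⟶ CommRingCat.of k => m z)
        (by rw [Scheme.ΓSpecIso_naturality, ← Category.assoc]; erw [Iso.inv_hom_id, Category.id_comp] :
          (Scheme.ΓSpecIso Γ(X.left, ⊤)).inv ≫ (Spec.map (CommRingCat.ofHom a.toRingHom)).appTop ≫
            (Scheme.ΓSpecIso (CommRingCat.of k)).hom = CommRingCat.ofHom a.toRingHom)
  let φ : Polynomial k →ₐ[k] Γ(X.left, ⊤) := Polynomial.aeval z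
  by_cases hinj : Function.Injective φ
  · right
    have hfp : φ.toRingHom.FinitePresentation := by
      letI := φ.toRingHom.toAlgebra
      haveI : IsScalarTower k (Polynomial k) Γ(X.left, ⊤) := IsScalarTower.of_algHom φ
      haveI : Algebra.FiniteType (Polynomial k) Γ(X.left, ⊤) := Algebra.FiniteType.of_restrictScalars_finiteType k _ _
      exact Algebra.FinitePresentation.of_finiteType.1 inferInstance
    obtain ⟨D, hD, ⟨P, hP⟩, hDr⟩ := HopfLib.exists_open_subset_range_comap φ.toRingHom hfp hinj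
    obtain ⟨_, ⟨g, rfl⟩, hPg, hgD⟩ := PrimeSpectrum.isTopologicalBasis_basic_opens.exists_subset_of_mem_open hP hD
    refine ⟨g, fun h => hPg (by rw [h]; exact P.asIdeal.zero_mem), fun c hc => ?_⟩
    let Pc : PrimeSpectrum (Polynomial k) := ⟨RingHom.ker (Polynomial.evalRingHom c), RingHom.ker_isPrime _⟩
    obtain ⟨Q, hQ⟩ := hDr (hgD (show Pc ∈ PrimeSpectrum.basicOpen g from hc))
    obtain ⟨a, ha⟩ := HopfLib.exists_algHom_le_ker (k := k) Q.isPrime.ne_top
    obtain ⟨x, hx⟩ := hpt a
    refine ⟨x, hx.trans ?_⟩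
    have : (Polynomial.X - Polynomial.C c : Polynomial k) ∈ Pc.asIdeal := by simp [Pc]
    rw [← hQ] at this
    have h0 : a (φ (Polynomial.X - Polynomial.C c)) = 0 := ha this
    rw [← Polynomial.aeval_algHom_apply] at h0
    simpa [sub_eq_zero] using h0
  · left
    rw [injective_iff_map_eq_zero] at hinj
    push Not at hinj
    obtain ⟨P, hP, hP0⟩ := hinj
    haveI : ConnectedSpace (PrimeSpectrum Γ(X.left, ⊤)) :=
      X.left.isoSpec.hom.homeomorph.surjective.connectedSpace X.left.isoSpec.hom.homeomorph.continuous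
    classical
    let C : k → Set (PrimeSpectrum Γ(X.left, ⊤)) := fun c => PrimeSpectrum.zeroLocus {z - algebraMap k _ c}
    have hcov : ∀ q : PrimeSpectrum Γ(X.left, ⊤), ∃ c ∈ P.roots.toFinset, q ∈ C c := fun q => by
      have h1 : φ (Polynomial.C P.leadingCoeff * (P.roots.map fun c => Polynomial.X - Polynomial.C c).prod) ∈ q.asIdeal := by
        rw [Polynomial.C_leadingCoeff_mul_prod_multiset_X_sub_C
          (IsAlgClosed.splits P).natDegree_eq_card_roots.symm, hP]
        exact q.asIdeal.zero_mem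
      rw [map_mul, map_multiset_prod, Multiset.map_map] at h1
      rcases q.isPrime.mem_or_mem h1 with h | h
      · exfalso
        refine q.isPrime.ne_top (Ideal.eq_top_of_isUnit_mem _ h ?_)
        rw [Polynomial.aeval_C]
        exact (isUnit_iff_ne_zero.2 (Polynomial.leadingCoeff_ne_zero.2 hP0)).map _
      · obtain ⟨_, hw, hwq⟩ := (q.isPrime.multiset_prod_mem_iff_exists_mem _).mp h
        obtain ⟨c, hc, rfl⟩ := Multiset.mem_map.mp hw
        refine ⟨c, Multiset.mem_toFinset.2 hc, ?_⟩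
        simpa [C, φ] using hwq
    obtain ⟨q₀⟩ := (inferInstance : Nonempty (PrimeSpectrum Γ(X.left, ⊤)))
    obtain ⟨c₀, hc₀, hq₀⟩ := hcov q₀
    have hdisj : ∀ c q, q ∈ C c → q ∈ C c₀ → c = c₀ := fun c q h h' => by
      by_contra hne
      refine q.isPrime.ne_top (Ideal.eq_top_of_isUnit_mem _ (Ideal.sub_mem _ (h' rfl) (h rfl)) ?_)
      rw [sub_sub_sub_cancel_left, ← map_sub]
      exact (isUnit_iff_ne_zero.2 (sub_ne_zero.2 hne)).map _
    have hopen : IsOpen (C c₀) := by
      have : C c₀ = (⋃ c ∈ P.roots.toFinset.erase c₀, C c)ᶜ := Set.ext fun q => by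
        simp only [Set.mem_compl_iff, Set.mem_iUnion, Finset.mem_erase, not_exists]
        constructor
        · exact fun h c hc h' => hc.1 (hdisj c q h' h)
        · intro h
          obtain ⟨c, hc, hq⟩ := hcov q
          by_cases hcc : c = c₀
          · exact hcc ▸ hq
          · exact absurd hq (h c ⟨hcc, hc⟩)
      rw [this]
      exact (Set.Finite.isClosed_biUnion (Finset.finite_toSet _) fun c _ => PrimeSpectrum.isClosed_zeroLocus _).isOpen_compl
    have huniv : C c₀ = Set.univ := IsClopen.eq_univ ⟨PrimeSpectrum.isClosed_zeroLocus _, hopen⟩ ⟨q₀, hq₀⟩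
    have hnil : IsNilpotent (z - algebraMap k Γ(X.left, ⊤) c₀) := by
      rw [← PrimeSpectrum.basicOpen_eq_bot_iff, ← SetLike.coe_set_eq, PrimeSpectrum.basicOpen_eq_zeroLocus_compl]
      change (C c₀)ᶜ = _
      rw [huniv, Set.compl_univ]
      rfl
    refine ⟨c₀, fun x => ?_⟩
    have := (hnil.map (x.left.appTop.hom)).map (Γk k)
    rw [isNilpotent_iff_eq_zero, map_sub, map_sub, sub_eq_zero] at this
    rw [this]
    show Γk k (x.left.appTop (X.hom.appTop ((Scheme.ΓSpecIso (CommRingCat.of k)).inv c₀))) = c₀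
    rw [← CommRingCat.comp_apply X.hom.appTop x.left.appTop, ← Scheme.Hom.comp_appTop, Over.w x]
    exact Iso.inv_hom_id_apply _ _

variable {k} {p : ℕ} [hp : Fact p.Prime] [CharP k p]

/-- The classification of connected smooth closed subgroups. -/
theorem exists_iso_V (n : ℕ) (H : Over (Sk k)) [GrpObj H] [Smooth H.hom] [ConnectedSpace ↥H.left]
    (j : H ⟶ Wk p k n) [IsMonHom j] [IsClosedImmersion j.left] :
    ∃ (i : ℕ) (hi : i ≤ n) (e : H ≅ Wk p k i), e.hom ≫ WittGrp.V p (Sk k) hi = j := by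
  haveI : IsReduced H.left := AbSchLib.isReduced_of_smooth H.hom
  haveI : IsAffine H.left := isAffine_of_isAffineHom j.left
  let A : AddSubgroup (TruncatedWittVector p n k) :=
    { carrier := {v | ∃ x : 𝟙_ (Over (Sk k)) ⟶ H, kv (x ≫ j) = v}
      zero_mem' := ⟨1, by rw [MonObj.one_comp, kv_one]⟩
      add_mem' := by
        rintro _ _ ⟨x, rfl⟩ ⟨y, rfl⟩
        exact ⟨x * y, by rw [MonObj.mul_comp, kv_mul]⟩
      neg_mem' := by
        rintro _ ⟨x, rfl⟩
        refine ⟨x⁻¹, eq_neg_of_add_eq_zero_left ?_⟩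
        rw [← kv_mul, GrpObj.inv_comp, inv_mul_cancel, kv_one] }
  have main : ∀ d m, m ≤ n → n ≤ m + d → (∀ v ∈ A, LowZero m v) →
      ∃ m' ≤ n, ∀ v, v ∈ A ↔ LowZero m' v := by
    intro d
    induction d with
    | zero =>
      intro m hm hn hA
      exact ⟨m, hm, fun v => ⟨hA v, fun hv => by rw [eq_zero_of_lowZero (by omega) hv]; exact A.zero_mem⟩⟩
    | succ d ih =>
      intro m hm hn hA
      by_cases hmn : m = n
      · exact ih m hm (by omega) hA
      have hlt : m < n := by omega
      by_cases hzero : ∀ v ∈ A, v.coeff ⟨m, hlt⟩ = 0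
      · refine ih (m + 1) (by omega) (by omega) fun v hv i hi => ?_
        rcases Nat.lt_succ_iff_lt_or_eq.mp hi with hi | hi
        · exact hA v hv i hi
        · rw [show i = ⟨m, hlt⟩ from Fin.ext hi]; exact hzero v hv
      refine ⟨m, hm, fun v => ⟨hA v, mem_of_lowZero A m hA (fun _ c => ?_) v⟩⟩
      have hval : ∀ x : 𝟙_ (Over (Sk k)) ⟶ H, (kv (x ≫ j)).coeff ⟨m, hlt⟩ =
          Γk k (x.left.appTop (j.left.appTop (WittGrp.coord p (⟨m, hlt⟩ : Fin n)))) := fun x => by
        rw [coeff_kv]; rfl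
      rcases values_dichotomy k H (j.left.appTop (WittGrp.coord p (⟨m, hlt⟩ : Fin n))) with ⟨c₀, hc₀⟩ | ⟨g, hg, hgv⟩
      · refine absurd (fun v hv => ?_) hzero
        obtain ⟨x, rfl⟩ := hv
        have h1 := (hval (1 : 𝟙_ (Over (Sk k)) ⟶ H)).trans (hc₀ _)
        rw [MonObj.one_comp, kv_one, TruncatedWittVector.coeff_zero] at h1
        rw [hval, hc₀, ← h1]
      · have hmem : ∀ c, g.eval c ≠ 0 → ∃ v ∈ A, v.coeff ⟨m, hlt⟩ = c := fun c hc => by
          obtain ⟨x, hx⟩ := hgv c hc
          exact ⟨_, ⟨x, rfl⟩, (hval x).trans hx⟩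
        obtain ⟨a, ha⟩ : ∃ a : k, (g * g.comp (Polynomial.C c - Polynomial.X)).eval a ≠ 0 := by
          by_contra hall
          push Not at hall
          revert hall
          suffices hne : g * g.comp (Polynomial.C c - Polynomial.X) ≠ 0 from fun hall =>
            hne (Polynomial.zero_of_eval_zero _ hall)
          refine mul_ne_zero hg fun h => ?_
          rw [Polynomial.comp_eq_zero_iff] at h
          rcases h with h | ⟨-, h⟩
          · exact hg h
          · have := congrArg (fun q => Polynomial.coeff q 1) h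
            simp at this
        rw [Polynomial.eval_mul, mul_ne_zero_iff, Polynomial.eval_comp] at ha
        obtain ⟨v, hv, hva⟩ := hmem a ha.1
        obtain ⟨w, hw, hwa⟩ := hmem (c - a) (by simpa using ha.2)
        exact ⟨v + w, A.add_mem hv hw, by rw [(lowZero_add (hA v hv) (hA w hw)).2 hlt, hva, hwa, add_sub_cancel]⟩
  obtain ⟨m, hm, hA⟩ := main n 0 (Nat.zero_le n) (by omega) fun v _ => lowZero_zero v
  obtain ⟨i, rfl⟩ := Nat.exists_eq_add_of_le hm
  refine ⟨i, Nat.le_add_left i m, ?_⟩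
  haveI : IsClosedImmersion (WittGrp.V p (Sk k) (Nat.le_add_left i m)).left := isClosedImmersion_V
  haveI : Mono j := Over.mono_of_mono_left j
  haveI : Mono (WittGrp.V p (Sk k) (Nat.le_add_left i m)) := Over.mono_of_mono_left _
  obtain ⟨a, ha⟩ := exists_factor k j (WittGrp.V p (Sk k) (Nat.le_add_left i m)) fun x => by
    have hx : LowZero m (kv (x ≫ j)) := (hA _).1 ⟨x, rfl⟩
    obtain ⟨y, hy⟩ := kv_surjective (n := i) (TruncatedWittVector.mk p fun l => (kv (x ≫ j)).coeff (Fin.natAdd m l))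
    refine ⟨y, kv_injective (TruncatedWittVector.ext fun l => ?_)⟩
    rw [kv_V, WittGrp.coeff_shift, hy]
    induction l using Fin.addCases with
    | left l => rw [dif_neg (by simp)]; exact (hx _ (by simp)).symm
    | right l =>
      rw [dif_pos (by simp), TruncatedWittVector.coeff_mk]
      congr 1
      ext
      simp
  obtain ⟨b, hb⟩ := exists_factor k (WittGrp.V p (Sk k) (Nat.le_add_left i m)) j fun y => by
    obtain ⟨x, hx⟩ := (hA (kv (y ≫ WittGrp.V p (Sk k) (Nat.le_add_left i m)))).2 fun l hl => by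
      rw [kv_V, WittGrp.coeff_shift, dif_neg (by simp; omega)]
    exact ⟨x, kv_injective hx⟩
  refine ⟨⟨a, b, ?_, ?_⟩, ha⟩
  · rw [← cancel_mono j, Category.assoc, hb, ha, Category.id_comp]
  · rw [← cancel_mono (WittGrp.V p (Sk k) (Nat.le_add_left i m)), Category.assoc, ha, hb, Category.id_comp]

end Groth.Agent.WittPts
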