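import Groth.Agent.Desc19b.Amitsur
import Mathlib.AlgebraicGeometry.Morphisms.Flat
import Mathlib.AlgebraicGeometry.Morphisms.Affine

/-!
# Additive one-cocycles along a faithfully flat morphism of affine schemes are coboundaries
-/

set_option autoImplicit false
set_option linter.style.haveILetI false

universe u

open CategoryTheory CategoryTheory.Limits AlgebraicGeometry TensorProduct

namespace Groth.Agent.WittPts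

theorem exists_tensor_hom {P X Y Z : Scheme.{u}} [IsAffine X] [IsAffine Y] [IsAffine Z] {p₁ : P ⟶ X} {p₂ : P ⟶ Y}
    {f : X ⟶ Z} {g : Y ⟶ Z} (h : IsPullback p₁ p₂ f g) [Algebra Γ(Z, ⊤) Γ(X, ⊤)] [Algebra Γ(Z, ⊤) Γ(Y, ⊤)]
    (hf : algebraMap Γ(Z, ⊤) Γ(X, ⊤) = f.appTop.hom) (hg : algebraMap Γ(Z, ⊤) Γ(Y, ⊤) = g.appTop.hom) :
    ∃ Φ : Γ(X, ⊤) ⊗[Γ(Z, ⊤)] Γ(Y, ⊤) →+* Γ(P, ⊤), Function.Bijective Φ ∧
      ∀ a b, Φ (a ⊗ₜ b) = p₁.appTop a * p₂.appTop b := by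
  have h' := isPushout_appTop_of_isPullback h
  rw [show f.appTop = CommRingCat.ofHom (algebraMap Γ(Z, ⊤) Γ(X, ⊤)) from CommRingCat.hom_ext hf.symm,
    show g.appTop = CommRingCat.ofHom (algebraMap Γ(Z, ⊤) Γ(Y, ⊤)) from CommRingCat.hom_ext hg.symm] at h'
  let e := (CommRingCat.isPushout_tensorProduct Γ(Z, ⊤) Γ(X, ⊤) Γ(Y, ⊤)).isoIsPushout _ _ h'
  refine ⟨e.hom.hom, ConcreteCategory.bijective_of_isIso e.hom, fun a b => ?_⟩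
  have h1 := congrArg (fun m => m.hom a)
    ((CommRingCat.isPushout_tensorProduct Γ(Z, ⊤) Γ(X, ⊤) Γ(Y, ⊤)).inl_isoIsPushout_hom _ _ h')
  have h2 := congrArg (fun m => m.hom b)
    ((CommRingCat.isPushout_tensorProduct Γ(Z, ⊤) Γ(X, ⊤) Γ(Y, ⊤)).inr_isoIsPushout_hom _ _ h')
  simp only [CommRingCat.hom_comp, RingHom.comp_apply, CommRingCat.hom_ofHom] at h1 h2
  rw [show a ⊗ₜ[Γ(Z, ⊤)] b = (a ⊗ₜ[Γ(Z, ⊤)] (1 : Γ(Y, ⊤))) * ((1 : Γ(X, ⊤)) ⊗ₜ[Γ(Z, ⊤)] b) by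
    rw [Algebra.TensorProduct.tmul_mul_tmul, mul_one, one_mul], map_mul]
  exact congrArg₂ (· * ·) h1 h2

/-- `H¹` of an affine scheme for the additive group along a faithfully flat cover vanishes. -/
theorem exists_sub_eq {X Y P T : Scheme.{u}} [IsAffine X] [IsAffine Y] {π : X ⟶ Y} [Flat π] [Surjective π]
    {p₁ p₂ : P ⟶ X} (hP : IsPullback p₁ p₂ π π) {t₁ : T ⟶ X} {t₂₃ : T ⟶ P} (hT : IsPullback t₁ t₂₃ π (p₁ ≫ π))
    (t₁₂ t₁₃ : T ⟶ P) (h₁₂ : t₁₂ ≫ p₁ = t₁) (h₁₂' : t₁₂ ≫ p₂ = t₂₃ ≫ p₁) (h₁₃ : t₁₃ ≫ p₁ = t₁)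
    (h₁₃' : t₁₃ ≫ p₂ = t₂₃ ≫ p₂) (δ : Γ(P, ⊤))
    (hδ : t₂₃.appTop δ + t₁₂.appTop δ = t₁₃.appTop δ) :
    ∃ z : Γ(X, ⊤), δ = p₂.appTop z - p₁.appTop z := by
  haveI : IsAffine P := .of_isPullback hP
  letI := π.appTop.hom.toAlgebra
  haveI : Module.FaithfullyFlat Γ(Y, ⊤) Γ(X, ⊤) :=
    (Flat.flat_and_surjective_iff_faithfullyFlat_of_isAffine π).mp ⟨inferInstance, inferInstance⟩
  obtain ⟨Φ, hΦ, hΦa⟩ := exists_tensor_hom hP rfl rfl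
  letI := (p₁ ≫ π).appTop.hom.toAlgebra
  obtain ⟨Ψ, hΨ, hΨa⟩ := exists_tensor_hom hT rfl rfl
  let Φl : Γ(X, ⊤) ⊗[Γ(Y, ⊤)] Γ(X, ⊤) ≃ₐ[Γ(Y, ⊤)] Γ(P, ⊤) := AlgEquiv.ofBijective
    { Φ with
      commutes' := fun r => by
        show Φ (algebraMap Γ(Y, ⊤) Γ(X, ⊤) r ⊗ₜ 1) = _
        rw [hΦa, map_one, mul_one]
        rfl } hΦ
  let A := Γ(X, ⊤)
  let R := Γ(Y, ⊤)
  let d : A →ₗ[R] A ⊗[R] A := (Algebra.TensorProduct.includeRight : A →ₐ[R] A ⊗[R] A).toLinearMap -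
    (Algebra.TensorProduct.includeLeft : A →ₐ[R] A ⊗[R] A).toLinearMap
  obtain ⟨x, hx⟩ := hΦ.2 δ
  let Θ : A ⊗[R] (A ⊗[R] A) → Γ(T, ⊤) := fun w => Ψ (Φl.toLinearMap.lTensor A w)
  have hΘ : Function.Injective Θ := hΨ.1.comp (Φl.toLinearEquiv.lTensor A).injective
  have hΘa : ∀ a w, Θ (a ⊗ₜ w) = t₁.appTop a * t₂₃.appTop (Φ w) := fun a w => by
    show Ψ (Φl.toLinearMap.lTensor A (a ⊗ₜ w)) = _
    rw [LinearMap.lTensor_tmul, hΨa]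
    rfl
  have hadd : ∀ v w, Θ (v + w) = Θ v + Θ w := fun v w => by simp only [Θ, map_add]
  obtain ⟨z, hz⟩ : x ∈ LinearMap.range d := by
    refine Desc19b.mem_range_of_one_tmul_mem (A := A) d ⟨x, hΘ ?_⟩
    have key : ∀ w : A ⊗[R] A, Θ (d.lTensor A w) = t₁₃.appTop (Φ w) - t₁₂.appTop (Φ w) := by
      intro w
      induction w using TensorProduct.induction_on with
      | zero => simp [Θ]
      | tmul a b =>
        show Θ (a ⊗ₜ (((1 : A) ⊗ₜ[R] b) - b ⊗ₜ[R] (1 : A))) = _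
        rw [hΘa, map_sub, hΦa, hΦa, hΦa, map_one, map_one, one_mul, mul_one, map_sub, map_mul, map_mul,
          mul_sub]
        simp only [← CommRingCat.comp_apply, ← Scheme.Hom.comp_appTop, h₁₂, h₁₂', h₁₃, h₁₃']
      | add v w hv hw => rw [map_add, hadd, hv, hw, map_add, map_add, map_add]; abel
    rw [key, hΘa, hx, map_one, one_mul, ← hδ]
    exact add_sub_cancel_right _ _
  refine ⟨z, ?_⟩
  rw [← hx, ← hz]
  show Φ ((1 : A) ⊗ₜ[R] z - z ⊗ₜ[R] (1 : A)) = _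
  rw [map_sub, hΦa, hΦa, map_one, map_one, one_mul, mul_one]

end Groth.Agent.WittPts
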