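import Groth.Agent.WittPts.Sub
import Groth.Agent.WittPts.AffineDescent
import Groth.Agent.Et18.Descent
import Groth.Prelude.Def_AlgGrp
import Mathlib.AlgebraicGeometry.Sites.Fpqc

/-!
# Extensions of one Witt group scheme by another split as schemes
-/

set_option autoImplicit false
set_option linter.style.haveILetI false

universe u

open CategoryTheory CategoryTheory.Limits MonoidalCategory CartesianMonoidalCategory MonObj AlgebraicGeometry Opposite

noncomputable section

namespace Groth.Agent.WittPts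

theorem kernel_mono {S : Scheme.{u}} {N E Q : Over S} [GrpObj Q] {i : N ⟶ E} {π : E ⟶ Q} (hker : AlgGrp.IsKernel i π)
    {T : Over S} {x y : T ⟶ N} (h : x ≫ i = y ≫ i) : x = y :=
  IsPullback.hom_ext hker h (toUnit_unique _ _)

theorem kernel_comp {S : Scheme.{u}} {N E Q : Over S} [GrpObj Q] {i : N ⟶ E} {π : E ⟶ Q} (hker : AlgGrp.IsKernel i π)
    {T : Over S} (x : T ⟶ N) : x ≫ i ≫ π = 1 := by
  rw [(IsPullback.toCommSq hker).w]
  show x ≫ (1 : N ⟶ Q) = 1
  rw [MonObj.comp_one]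

theorem kernel_lift {S : Scheme.{u}} {N E Q : Over S} [GrpObj E] [GrpObj Q] {i : N ⟶ E} {π : E ⟶ Q} [IsMonHom π]
    (hker : AlgGrp.IsKernel i π) {T : Over S} (x y : T ⟶ E) (h : x ≫ π = y ≫ π) :
    ∃ d : T ⟶ N, x * (d ≫ i) = y := by
  have hw : (x⁻¹ * y) ≫ π = toUnit T ≫ η[Q] := by
    rw [MonObj.mul_comp, GrpObj.inv_comp, h, inv_mul_cancel]; rfl
  exact ⟨IsPullback.lift hker (x⁻¹ * y) (toUnit T) hw,
    by rw [IsPullback.lift_fst, mul_inv_cancel_left]⟩

theorem isAffineHom_W (p : ℕ) [Fact p.Prime] (S : Scheme.{u}) (n : ℕ) : IsAffineHom (WittGrp.W p n S).hom :=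
  inferInstanceAs (IsAffineHom (𝔸(ULift.{u} (Fin n); S) ↘ S))

theorem cocycle_identity {G : Type*} [CommGroup G] (A B C t t' : G) :
    B * t' * C⁻¹ * (A * t * B⁻¹) = A * (t * t') * C⁻¹ := by
  apply Additive.ofMul.injective
  simp only [ofMul_mul, ofMul_inv]
  abel

theorem mul_div_identity {G : Type*} [CommGroup G] (x u v : G) : x * v * (u * v)⁻¹ = x * u⁻¹ := by
  apply Additive.ofMul.injective
  simp only [ofMul_mul, ofMul_inv]
  abel

theorem defect_identity {G : Type*} [CommGroup G] (A B C a b : G) :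
    A * a * C * (B * b)⁻¹ = A * C * B⁻¹ * (a * b⁻¹) := by
  apply Additive.ofMul.injective
  simp only [ofMul_mul, ofMul_inv]
  abel

theorem isAffine_and_exists_splitting (p : ℕ) [Fact p.Prime] {S : Scheme.{u}} [IsAffine S] {a b : ℕ} (E : Over S)
    [GrpObj E] [IsCommMonObj E] [QuasiCompact E.hom] (i : WittGrp.W p b S ⟶ E) [IsMonHom i]
    (π : E ⟶ WittGrp.W p a S) [IsMonHom π] [Surjective π.left] [Flat π.left] (hker : AlgGrp.IsKernel i π) :
    IsAffine E.left ∧ ∃ (r : E ⟶ WittGrp.W p b S) (s : WittGrp.W p a S ⟶ E),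
      (∀ (T : Over S) (x : T ⟶ E) (t : T ⟶ WittGrp.W p b S), (x * (t ≫ i)) ≫ r = (x ≫ r) * t) ∧
        (∀ T : Over S, (1 : T ⟶ E) ≫ r = 1) ∧ s ≫ π = 𝟙 _ ∧ s ≫ r = 1 ∧
          ∀ (T : Over S) (x : T ⟶ E), x = (x ≫ π ≫ s) * (x ≫ r ≫ i) := by
  let m : E ⊗ (WittGrp.W p b S) ⟶ E := fst E (WittGrp.W p b S) * (snd E (WittGrp.W p b S) ≫ i)
  have hπi : ∀ {T : Over S} (x : T ⟶ E) (t : T ⟶ (WittGrp.W p b S)), (x * (t ≫ i)) ≫ π = x ≫ π := fun x t => by
    rw [MonObj.mul_comp, Category.assoc, kernel_comp hker, _root_.mul_one]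
  have hliftm : ∀ {T : Over S} (x : T ⟶ E) (t : T ⟶ (WittGrp.W p b S)), lift x t ≫ m = x * (t ≫ i) := fun x t => by
    simp only [m, MonObj.comp_mul, lift_fst, lift_snd_assoc]
  have hP : IsPullback (fst E (WittGrp.W p b S)) m π π := by
    have hw : fst E (WittGrp.W p b S) ≫ π = m ≫ π := (hπi _ _).symm
    choose d hd using fun c : PullbackCone π π => kernel_lift hker c.fst c.snd c.condition
    refine IsPullback.of_isLimit (c := PullbackCone.mk _ _ hw) (PullbackCone.IsLimit.mk hw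
      (fun c => lift c.fst (d c)) (fun c => lift_fst _ _) (fun c => (hliftm _ _).trans (hd c))
      (fun c q h₁ h₂ => ?_))
    refine CartesianMonoidalCategory.hom_ext _ _ (by rw [lift_fst, h₁]) (kernel_mono hker ?_)
    rw [lift_snd]
    refine mul_left_cancel (a := c.fst) ?_
    rw [hd, ← hliftm, ← h₂]
    congr 1
    rw [← h₁]
    exact hom_ext _ _ (lift_fst _ _) (lift_snd _ _)
  have hPs : IsPullback (fst E (WittGrp.W p b S)).left m.left π.left π.left := hP.map (Over.forget S)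
  haveI := isAffineHom_W p S a
  haveI := isAffineHom_W p S b
  haveI : QuasiCompact (π.left ≫ (WittGrp.W p a S).hom) := by rw [Over.w]; infer_instance
  haveI : QuasiCompact π.left := QuasiCompact.of_comp π.left (WittGrp.W p a S).hom
  haveI : IsAffineHom π.left := by
    haveI := Et18.descends_isAffineHom.{u}
    exact MorphismProperty.of_isPullback_of_descendsAlong (P := @IsAffineHom) (Q := Et18.FPQC.{u}) hPs
      ⟨⟨inferInstance, inferInstance⟩, inferInstance⟩
      (MorphismProperty.pullback_fst (P := @IsAffineHom) E.hom (WittGrp.W p b S).hom inferInstance)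
  haveI : IsAffine (WittGrp.W p a S).left := isAffine_of_isAffineHom (WittGrp.W p a S).hom
  haveI : IsAffine E.left := isAffine_of_isAffineHom π.left
  refine ⟨inferInstance, ?_⟩
  let t₁ : E ⊗ ((WittGrp.W p b S) ⊗ (WittGrp.W p b S)) ⟶ E := fst _ _
  let t₁₂ : E ⊗ ((WittGrp.W p b S) ⊗ (WittGrp.W p b S)) ⟶ E ⊗ (WittGrp.W p b S) := lift (fst _ _) (snd _ _ ≫ fst _ _)
  let t₁₃ : E ⊗ ((WittGrp.W p b S) ⊗ (WittGrp.W p b S)) ⟶ E ⊗ (WittGrp.W p b S) := lift (fst _ _) ((snd _ _ ≫ fst _ _) * (snd _ _ ≫ snd _ _))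
  let t₂₃ : E ⊗ ((WittGrp.W p b S) ⊗ (WittGrp.W p b S)) ⟶ E ⊗ (WittGrp.W p b S) := lift (fst _ _ * ((snd _ _ ≫ fst _ _) ≫ i)) (snd _ _ ≫ snd _ _)
  have hT : IsPullback t₁ t₂₃ π (fst E (WittGrp.W p b S) ≫ π) := by
    have hw : t₁ ≫ π = t₂₃ ≫ fst E (WittGrp.W p b S) ≫ π := by
      simp only [t₁, t₂₃, lift_fst_assoc]; exact (hπi _ _).symm
    choose d hd using fun c : PullbackCone π (fst E (WittGrp.W p b S) ≫ π) =>
      kernel_lift hker c.fst (c.snd ≫ fst E (WittGrp.W p b S)) (c.condition.trans (Category.assoc _ _ _).symm)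
    refine IsPullback.of_isLimit (c := PullbackCone.mk _ _ hw) (PullbackCone.IsLimit.mk hw
      (fun c => lift c.fst (lift (d c) (c.snd ≫ snd E (WittGrp.W p b S)))) (fun c => lift_fst _ _) (fun c => ?_)
      (fun c q h₁ h₂ => ?_))
    · refine CartesianMonoidalCategory.hom_ext _ _ ?_ ?_
      · simp only [t₂₃, Category.assoc, lift_fst, MonObj.comp_mul, lift_snd_assoc, lift_fst_assoc]
        exact hd c
      · simp only [t₂₃, Category.assoc, lift_snd, lift_snd_assoc]
    · refine CartesianMonoidalCategory.hom_ext _ _ (by rw [lift_fst]; exact h₁) ?_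
      rw [lift_snd]
      refine CartesianMonoidalCategory.hom_ext _ _ (kernel_mono hker ?_) ?_
      · rw [lift_fst]
        refine mul_left_cancel (a := c.fst) ?_
        rw [hd, ← h₂, ← h₁]
        simp only [t₂₃, t₁, Category.assoc, lift_fst, MonObj.comp_mul]
      · rw [lift_snd, ← h₂]
        simp only [t₂₃, Category.assoc, lift_snd]
  have hTs : IsPullback t₁.left t₂₃.left π.left ((fst E (WittGrp.W p b S)).left ≫ π.left) := hT.map (Over.forget S)
  have step : ∀ l ≤ b, ∃ r : E ⟶ (WittGrp.W p b S),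
      LowZero l (WittGrp.pts p _ (Additive.ofMul ((fst E (WittGrp.W p b S) ≫ r) * snd E (WittGrp.W p b S) * (m ≫ r)⁻¹))) := by
    intro l
    induction l with
    | zero => exact fun _ => ⟨1, lowZero_zero _⟩
    | succ l ih =>
      intro hl
      obtain ⟨r, hr⟩ := ih (by omega)
      let D : E ⊗ (WittGrp.W p b S) ⟶ (WittGrp.W p b S) := (fst E (WittGrp.W p b S) ≫ r) * snd E (WittGrp.W p b S) * (m ≫ r)⁻¹
      let δ := (WittGrp.pts p _ (Additive.ofMul D)).coeff ⟨l, by omega⟩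
      have hD : (t₂₃ ≫ D) * (t₁₂ ≫ D) = t₁₃ ≫ D := by
        simp only [D, m, t₁₂, t₁₃, t₂₃, MonObj.comp_mul, GrpObj.comp_inv, lift_fst_assoc, lift_snd_assoc, lift_fst,
          lift_snd, ← Category.assoc, MonObj.mul_comp]
        rw [cocycle_identity]
        simp only [_root_.mul_assoc]
      have hlow : ∀ t : E ⊗ ((WittGrp.W p b S) ⊗ (WittGrp.W p b S)) ⟶ E ⊗ (WittGrp.W p b S), LowZero l (WittGrp.pts p _ (Additive.ofMul (t ≫ D))) :=
        fun t i hi => by rw [coeff_comp, hr i hi, map_zero]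
      have hδ : t₂₃.left.appTop δ + t₁₂.left.appTop δ = t₁₃.left.appTop δ := by
        have h2 := (lowZero_add (hlow t₂₃) (hlow t₁₂)).2 (by omega : l < b)
        rw [← WittGrp.pts_mul, hD, coeff_comp, coeff_comp, coeff_comp] at h2
        exact h2.symm
      obtain ⟨z, hz⟩ := exists_sub_eq hPs hTs t₁₂.left t₁₃.left
        (by rw [← Over.comp_left]; exact congrArg CommaMorphism.left (lift_fst _ _))
        (by rw [← Over.comp_left, ← Over.comp_left]; congr 1; simp only [t₁₂, t₂₃, lift_fst, hliftm])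
        (by rw [← Over.comp_left]; exact congrArg CommaMorphism.left (lift_fst _ _))
        (by
          rw [← Over.comp_left, ← Over.comp_left]
          congr 1
          simp only [t₁₃, t₂₃, hliftm, MonObj.mul_comp, _root_.mul_assoc])
        δ hδ
      let c : E ⟶ (WittGrp.W p b S) := ofCoeffs fun j => if (j : ℕ) = l then z else 0
      refine ⟨r * c, ?_⟩
      have hu : ∀ q : E ⊗ (WittGrp.W p b S) ⟶ E, LowZero l (WittGrp.pts p _ (Additive.ofMul (q ≫ c))) ∧
          (WittGrp.pts p _ (Additive.ofMul (q ≫ c))).coeff ⟨l, by omega⟩ = q.left.appTop z := fun q => by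
        refine ⟨fun j hj => ?_, ?_⟩
        · rw [coeff_comp, coeff_ofCoeffs, if_neg hj.ne, map_zero]
        · rw [coeff_comp, coeff_ofCoeffs, if_pos rfl]
      have hD' : (fst E (WittGrp.W p b S) ≫ (r * c)) * snd E (WittGrp.W p b S) * (m ≫ (r * c))⁻¹ = D * ((fst E (WittGrp.W p b S) ≫ c) * (m ≫ c)⁻¹) := by
        simp only [D, MonObj.comp_mul]
        exact defect_identity _ _ _ _ _
      have hc : WittGrp.pts p _ (Additive.ofMul ((fst E (WittGrp.W p b S) ≫ c) * (m ≫ c)⁻¹)) =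
          WittGrp.pts p _ (Additive.ofMul (fst E (WittGrp.W p b S) ≫ c)) + -WittGrp.pts p _ (Additive.ofMul (m ≫ c)) := by
        rw [WittGrp.pts_mul, ofMul_inv, map_neg]
      rw [hD', WittGrp.pts_mul, hc]
      have hA := lowZero_add (hu (fst E (WittGrp.W p b S))).1 (lowZero_neg (hu m).1)
      intro j hj
      rcases Nat.lt_succ_iff_lt_or_eq.mp hj with hj | hj
      · exact (lowZero_add hr hA.1).1 j hj
      · rw [show j = (⟨l, by omega⟩ : Fin b) from Fin.ext hj, (lowZero_add hr hA.1).2 (by omega),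
          hA.2 (by omega), coeff_neg_lowZero (hu m).1, (hu _).2, (hu _).2]
        show δ + _ = 0
        rw [hz]
        abel
  obtain ⟨r₀, hr₀⟩ := step b le_rfl
  have hm₀ : (fst E (WittGrp.W p b S) ≫ r₀) * snd E (WittGrp.W p b S) = m ≫ r₀ :=
    mul_inv_eq_one.1 (WittGrp.pts_injective p _ ((eq_zero_of_lowZero le_rfl hr₀).trans (WittGrp.pts_one p _).symm))
  let r := r₀ * (toUnit E ≫ η[E] ≫ r₀)⁻¹
  have hr : ∀ (T : Over S) (x : T ⟶ E) (t : T ⟶ (WittGrp.W p b S)), (x * (t ≫ i)) ≫ r = (x ≫ r) * t := fun T x t => by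
    have h := lift x t ≫= hm₀
    rw [MonObj.comp_mul, lift_fst_assoc, lift_snd, ← Category.assoc, hliftm] at h
    simp only [r, MonObj.comp_mul, GrpObj.comp_inv, ← h, ← Category.assoc, comp_toUnit]
    exact _root_.mul_right_comm _ _ _
  have hr1 : ∀ T : Over S, (1 : T ⟶ E) ≫ r = 1 := fun T => by
    simp only [r, MonObj.comp_mul, GrpObj.comp_inv, ← Category.assoc, comp_toUnit]
    exact mul_inv_cancel _
  let σ : E ⟶ E := 𝟙 E * (r ≫ i)⁻¹
  have hσ : fst E (WittGrp.W p b S) ≫ σ = m ≫ σ := by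
    have h := hr _ (fst E (WittGrp.W p b S)) (snd E (WittGrp.W p b S))
    change m ≫ r = _ at h
    simp only [σ, MonObj.comp_mul, GrpObj.comp_inv, Category.comp_id, ← Category.assoc, h, MonObj.mul_comp]
    exact (mul_div_identity _ _ _).symm
  have hdesc : ∀ {U : Scheme.{u}} (g₁ g₂ : U ⟶ E.left), g₁ ≫ π.left = g₂ ≫ π.left → g₁ ≫ σ.left = g₂ ≫ σ.left :=
    fun g₁ g₂ h => by
      rw [← hPs.lift_fst g₁ g₂ h, Category.assoc]
      conv_rhs => rw [← hPs.lift_snd g₁ g₂ h, Category.assoc]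
      congr 1
      exact congrArg CommaMorphism.left hσ
  let s : WittGrp.W p a S ⟶ E := Over.homMk (EffectiveEpi.desc π.left σ.left hdesc) (by
    rw [← cancel_epi π.left, ← Category.assoc, EffectiveEpi.fac, Over.w, Over.w])
  have hs : π ≫ s = σ := Over.OverMorphism.ext (EffectiveEpi.fac π.left σ.left hdesc)
  haveI : Epi π.left := inferInstance
  haveI : Epi π := Over.epi_of_epi_left π
  have hdec : ∀ (T : Over S) (x : T ⟶ E), x = (x ≫ π ≫ s) * (x ≫ r ≫ i) := fun T x => by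
    rw [hs]
    simp only [σ, MonObj.comp_mul, GrpObj.comp_inv, Category.comp_id]
    exact (inv_mul_cancel_right _ _).symm
  refine ⟨r, s, hr, hr1, ?_, ?_, hdec⟩
  · rw [← cancel_epi π, ← Category.assoc, hs, Category.comp_id]
    simp only [σ, MonObj.mul_comp, GrpObj.inv_comp, Category.id_comp, Category.assoc, kernel_comp hker, inv_one,
      _root_.mul_one]
  · rw [← cancel_epi π, ← Category.assoc, hs, MonObj.comp_one]
    have h := hr _ (𝟙 E) r⁻¹
    rw [GrpObj.inv_comp, Category.id_comp, mul_inv_cancel] at h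
    exact h

end Groth.Agent.WittPts
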