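import Groth.Agent.WittPts.Classify
import Groth.Agent.WittPts.Split

/-!
# Extensions of Witt group schemes over an algebraically closed field of characteristic `p`
-/

set_option autoImplicit false
set_option linter.style.haveILetI false

universe u

open CategoryTheory CategoryTheory.Limits MonoidalCategory CartesianMonoidalCategory MonObj AlgebraicGeometry Opposite

noncomputable section

namespace Groth.Agent.WittPts

variable {k : Type u} [Field k]

/-- Homomorphisms are detected on `k`-points. -/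
theorem isMonHom_of_pts [IsAlgClosed k] {X Y : Over (Sk k)} [GrpObj X] [GrpObj Y] [Smooth X.hom] [IsSeparated Y.hom]
    [LocallyOfFiniteType Y.hom] (f : X ⟶ Y)
    (h : ∀ x y : 𝟙_ (Over (Sk k)) ⟶ X, (x * y) ≫ f = (x ≫ f) * (y ≫ f)) : IsMonHom f := by
  haveI hs : Smooth (X ⊗ X).hom := by rw [Over.tensorObj_hom]; infer_instance
  haveI : IsReduced (X ⊗ X).left := AbSchLib.isReduced_of_smooth (X ⊗ X).hom
  have hmul : (fst X X * snd _ _) ≫ f = (fst _ _ ≫ f) * (snd _ _ ≫ f) := by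
    refine hom_ext_pts fun z => ?_
    rw [← Category.assoc, MonObj.comp_mul, MonObj.comp_mul, h, Category.assoc, Category.assoc]
  refine WittGrp.isMonHom_of_comp_mul f ?_ fun T x y => ?_
  · have h1 := h 1 1
    rw [_root_.one_mul, left_eq_mul] at h1
    exact h1
  · have h2 := lift x y ≫= hmul
    rw [← Category.assoc, MonObj.comp_mul, MonObj.comp_mul, lift_fst, lift_snd, lift_fst_assoc, lift_snd_assoc] at h2
    exact h2

variable {p : ℕ} [hp : Fact p.Prime] [CharP k p] {a b : ℕ} {E : Over (Sk k)} [GrpObj E]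

theorem kp_add (v w : TruncatedWittVector p a k) : kp (v + w) = kp v * kp w :=
  kv_injective (by rw [kv_mul, kv_kp, kv_kp, kv_kp])

theorem kp_zero : kp (0 : TruncatedWittVector p a k) = 1 := kv_injective (by rw [kv_kp, kv_one])

theorem comp_kp (f : Wk p k a ⟶ Wk p k b) (v : TruncatedWittVector p a k) : kp v ≫ f = kp (ev f v) :=
  kv_injective (by rw [kv_comp, kv_kp, kv_kp])

/-- A scheme-theoretic splitting of an extension. -/
structure Split (i : Wk p k b ⟶ E) (π : E ⟶ Wk p k a) where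
  /-- the retraction -/
  r : E ⟶ Wk p k b
  /-- the section -/
  s : Wk p k a ⟶ E
  r_mul : ∀ (x : 𝟙_ (Over (Sk k)) ⟶ E) (t : TruncatedWittVector p b k), kv ((x * (kp t ≫ i)) ≫ r) = kv (x ≫ r) + t
  r_one : kv ((1 : 𝟙_ (Over (Sk k)) ⟶ E) ≫ r) = 0
  π_s : ∀ u, kv ((kp u ≫ s) ≫ π) = u
  r_s : ∀ u, kv ((kp u ≫ s) ≫ r) = 0
  dec : ∀ x : 𝟙_ (Over (Sk k)) ⟶ E, x = (kp (kv (x ≫ π)) ≫ s) * (kp (kv (x ≫ r)) ≫ i)
  π_i : ∀ t, kv ((kp t ≫ i) ≫ π) = 0

namespace Split

variable {i : Wk p k b ⟶ E} {π : E ⟶ Wk p k a} (σ : Split i π)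

/-- The cocycle of the extension. -/
def F : Wk p k a ⊗ Wk p k a ⟶ Wk p k b := ((fst _ _ ≫ σ.s) * (snd _ _ ≫ σ.s)) ≫ σ.r

theorem ev2_F (u v : TruncatedWittVector p a k) : ev2 σ.F u v = kv (((kp u ≫ σ.s) * (kp v ≫ σ.s)) ≫ σ.r) := by
  rw [ev2, F, ← Category.assoc, MonObj.comp_mul, lift_fst_assoc, lift_snd_assoc]

theorem r_i (t : TruncatedWittVector p b k) : kv ((kp t ≫ i) ≫ σ.r) = t := by
  have h := σ.r_mul 1 t
  rwa [σ.r_one, zero_add, _root_.one_mul] at h

include σ in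
theorem i_injective {t t' : TruncatedWittVector p b k} (h : kp t ≫ i = kp t' ≫ i) : t = t' := by
  rw [← σ.r_i t, h, σ.r_i]

theorem s_zero [IsMonHom i] [IsMonHom π] : kp (0 : TruncatedWittVector p a k) ≫ σ.s = 1 := by
  have h := σ.dec 1
  rw [σ.r_one, MonObj.one_comp, kv_one, kp_zero (a := b), MonObj.one_comp, _root_.mul_one] at h
  exact h.symm

theorem mul_eq [IsMonHom π] (u v : TruncatedWittVector p a k) :
    (kp u ≫ σ.s) * (kp v ≫ σ.s) = (kp (u + v) ≫ σ.s) * (kp (ev2 σ.F u v) ≫ i) := by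
  have h := σ.dec ((kp u ≫ σ.s) * (kp v ≫ σ.s))
  rwa [MonObj.mul_comp, kv_mul, σ.π_s, σ.π_s, ← σ.ev2_F] at h

/-- Multiplication in coordinates. -/
theorem mul_pair [IsMonHom i] [IsMonHom π] [IsCommMonObj E] (u u' : TruncatedWittVector p a k)
    (t t' : TruncatedWittVector p b k) :
    (kp u ≫ σ.s) * (kp t ≫ i) * ((kp u' ≫ σ.s) * (kp t' ≫ i)) =
      (kp (u + u') ≫ σ.s) * (kp (ev2 σ.F u u' + (t + t')) ≫ i) := by
  rw [_root_.mul_mul_mul_comm, σ.mul_eq, kp_add (ev2 σ.F u u') (t + t'), kp_add t t', MonObj.mul_comp, MonObj.mul_comp,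
    _root_.mul_assoc]

theorem π_pair [IsMonHom π] (u : TruncatedWittVector p a k) (t : TruncatedWittVector p b k) :
    kv (((kp u ≫ σ.s) * (kp t ≫ i)) ≫ π) = u := by
  rw [MonObj.mul_comp, kv_mul, σ.π_s, σ.π_i, add_zero]

theorem r_pair (u : TruncatedWittVector p a k) (t : TruncatedWittVector p b k) :
    kv (((kp u ≫ σ.s) * (kp t ≫ i)) ≫ σ.r) = t := by
  rw [σ.r_mul, σ.r_s, zero_add]

theorem isCoc [IsMonHom i] [IsMonHom π] [IsCommMonObj E] : IsCoc (ev2 σ.F) := by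
  refine ⟨fun u v => by rw [σ.ev2_F, σ.ev2_F, _root_.mul_comm], fun u v w => ?_⟩
  have h : ((kp u ≫ σ.s) * (kp v ≫ σ.s)) * (kp w ≫ σ.s) = (kp u ≫ σ.s) * ((kp v ≫ σ.s) * (kp w ≫ σ.s)) :=
    _root_.mul_assoc _ _ _
  rw [σ.mul_eq, σ.mul_eq v w, _root_.mul_right_comm, σ.mul_eq, ← _root_.mul_assoc, σ.mul_eq, _root_.mul_assoc,
    _root_.mul_assoc, ← MonObj.mul_comp, ← MonObj.mul_comp, ← kp_add, ← kp_add, add_assoc u v w] at h
  have h' := σ.i_injective (mul_left_cancel h)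
  rw [h', add_comm]

theorem F_zero [IsMonHom i] [IsMonHom π] : ev2 σ.F 0 0 = 0 := by
  rw [σ.ev2_F, σ.s_zero, _root_.mul_one, σ.r_one]

end Split

theorem exists_split (E : Over (Sk k)) [GrpObj E] [IsCommMonObj E] [QuasiCompact E.hom]
    (i : Wk p k b ⟶ E) [IsMonHom i] (π : E ⟶ Wk p k a) [IsMonHom π] [Surjective π.left] [Flat π.left]
    (hker : AlgGrp.IsKernel i π) : IsAffine E.left ∧ Nonempty (Split i π) := by
  obtain ⟨hE, r, s, hr, hr1, hsπ, hsr, hdec⟩ := isAffine_and_exists_splitting p E i π hker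
  refine ⟨hE, ⟨⟨r, s, fun x t => ?_, ?_, fun u => ?_, fun u => ?_, fun x => ?_, fun t => ?_⟩⟩⟩
  · rw [hr, kv_mul, kv_kp]
  · rw [hr1, kv_one]
  · rw [Category.assoc, hsπ, Category.comp_id, kv_kp]
  · rw [Category.assoc, hsr, MonObj.comp_one, kv_one]
  · rw [kp_kv, kp_kv, Category.assoc, Category.assoc]
    exact hdec _ x
  · rw [Category.assoc, kernel_comp hker, kv_one]

variable [IsAlgClosed k] [IsCommMonObj E] [Smooth E.hom] [IsAffine E.left]

theorem exists_pushout_hom {n : ℕ} {i : Wk p k 1 ⟶ E} [IsMonHom i] {π : E ⟶ Wk p k n} [IsMonHom π] (σ : Split i π) :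
    ∃ (φ : Wk p k 1 ⟶ Wk p k 1) (g : Wk p k (n + 1) ⟶ E), IsMonHom φ ∧ IsMonHom g ∧
      WittGrp.V p (Sk k) (Nat.le_add_left 1 n) ≫ g = φ ≫ i ∧ g ≫ π = WittGrp.R p (Sk k) (Nat.le_add_right n 1) := by
  obtain ⟨g₀, φ, hφ, hF⟩ := classify_W1 n σ.F σ.isCoc
  haveI := hφ
  let R := WittGrp.R p (Sk k) (Nat.le_add_right n 1)
  let τ := rest p k (Nat.le_add_right n 1) ≫ high p k (Nat.le_add_left 1 n)
  let ζ : Wk p k (n + 1) ⟶ Wk p k 1 := (τ ≫ φ) * (R ≫ g₀)⁻¹
  let g : Wk p k (n + 1) ⟶ E := (R ≫ σ.s) * (ζ ≫ i)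
  have hg : ∀ v, kp v ≫ g = (kp (TruncatedWittVector.truncate (Nat.le_add_right n 1) v) ≫ σ.s) * (kp (ev ζ v) ≫ i) :=
    fun v => by simp only [g, MonObj.comp_mul, ← Category.assoc, comp_kp, R, ev_R]
  have hτ : ∀ v, WittGrp.shift p (Nat.le_add_left 1 n) (ev τ v) = ev (rest p k (Nat.le_add_right n 1)) v := fun v => by
    rw [ev_comp]
    refine shift_high _ fun j hj => ?_
    rw [ev_rest]
    exact lowZero_of_truncate_eq_zero (Nat.le_add_right n 1) (by rw [map_sub, truncate_pad, sub_self]) j (by omega)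
  have hcτ : ∀ v w, ev2 (carry p k (Nat.le_succ n) (Nat.le_add_left 1 n))
      (TruncatedWittVector.truncate (Nat.le_add_right n 1) v) (TruncatedWittVector.truncate (Nat.le_add_right n 1) w) =
      ev τ (v + w) - ev τ v - ev τ w := fun v w => by
    refine shift_injective (Nat.le_add_left 1 n) ?_
    rw [shift_carry _ _ (by omega), map_sub, map_sub, hτ, hτ, hτ, ev_rest, ev_rest, ev_rest, map_add]
    abel
  have hg0 : ev g₀ 0 = 0 := by
    have h := hF 0 0
    rw [σ.F_zero, add_zero, add_sub_cancel_right] at h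
    have hc : ev2 (carry p k (Nat.le_succ n) (Nat.le_add_left 1 n)) (0 : TruncatedWittVector p n k) 0 = 0 :=
      shift_injective (Nat.le_add_left 1 n) (by rw [shift_carry _ _ (by omega), map_zero, add_zero, ev_pad_zero, add_zero, sub_zero])
    rw [hc, show ev φ (0 : TruncatedWittVector p 1 k) = 0 from map_zero (evHom φ), add_zero] at h
    exact h.symm
  refine ⟨φ, g, hφ, ?_, ?_, ?_⟩
  · haveI := smooth_W p k (n + 1)
    refine isMonHom_of_pts g fun x y => ?_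
    rw [← kp_kv x, ← kp_kv y, ← kp_add, hg, hg, hg, σ.mul_pair, map_add]
    congr 2
    rw [hF, hcτ]
    have hs : ∀ c d, ev φ (c - d) = ev φ c - ev φ d := map_sub (evHom φ)
    simp only [ζ, ev_mul, ev_inv, ev_comp, R, ev_R, map_add, hs]
    congr 1
    abel
  · refine hom_ext_pts fun x => ?_
    rw [← kp_kv x, ← Category.assoc, comp_kp, ev_V, hg, ← Category.assoc, comp_kp]
    have h0 : TruncatedWittVector.truncate (Nat.le_add_right n 1) (WittGrp.shift p (Nat.le_add_left 1 n) (kv x)) = 0 :=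
      TruncatedWittVector.ext fun j => by
        rw [TruncatedWittVector.coeff_truncate, WittGrp.coeff_shift, TruncatedWittVector.coeff_zero,
          dif_neg (by simp)]
    have hτ0 : ev τ (WittGrp.shift p (Nat.le_add_left 1 n) (kv x)) = kv x :=
      shift_injective (Nat.le_add_left 1 n) (by rw [hτ, ev_rest, h0, ev_pad_zero, sub_zero])
    rw [h0, σ.s_zero, _root_.one_mul]
    simp only [ζ, ev_mul, ev_inv, ev_comp, R, ev_R, h0, hg0, hτ0, neg_zero, add_zero]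
  · refine hom_ext_kv fun x => ?_
    rw [← kp_kv x, ← Category.assoc, hg, σ.π_pair, kv_R, kv_kp]

theorem exists_pullback_hom {n : ℕ} {i : Wk p k n ⟶ E} [IsMonHom i] {π : E ⟶ Wk p k 1} [IsMonHom π] (σ : Split i π) :
    ∃ (ψ : Wk p k 1 ⟶ Wk p k 1) (h : E ⟶ Wk p k (n + 1)), IsMonHom ψ ∧ IsMonHom h ∧
      i ≫ h = WittGrp.V p (Sk k) (Nat.le_add_right n 1) ∧ h ≫ WittGrp.R p (Sk k) (Nat.le_add_left 1 n) = π ≫ ψ := by
  obtain ⟨G, ψ, hψ, hF⟩ := classify_Wn n σ.F σ.isCoc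
  haveI := hψ
  let h : E ⟶ Wk p k (n + 1) :=
    (π ≫ ψ ≫ pad p k (Nat.le_add_left 1 n)) * ((σ.r * (π ≫ G)) ≫ WittGrp.V p (Sk k) (Nat.le_add_right n 1))
  have hh : ∀ u t, kv (((kp u ≫ σ.s) * (kp t ≫ i)) ≫ h) =
      ev (pad p k (Nat.le_add_left 1 n)) (ev ψ u) + WittGrp.shift p (Nat.le_add_right n 1) (t + ev G u) := fun u t => by
    simp only [h, MonObj.comp_mul, kv_mul, ← Category.assoc, kv_comp, σ.π_pair, σ.r_pair, ev_V]
  have hG0 : ev G 0 = 0 := by
    have h' := hF 0 0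
    rw [σ.F_zero, add_zero, add_sub_cancel_right, show ev ψ (0 : TruncatedWittVector p 1 k) = 0 from map_zero (evHom ψ)] at h'
    have hc : ev2 (carry p k (Nat.le_add_left 1 n) (Nat.le_succ n)) (0 : TruncatedWittVector p 1 k) 0 = 0 :=
      shift_injective (Nat.le_succ n) (by rw [shift_carry _ _ (by omega), map_zero, add_zero, ev_pad_zero, add_zero, sub_zero])
    rw [hc, add_zero] at h'
    exact h'.symm
  refine ⟨ψ, h, hψ, ?_, ?_, ?_⟩
  · refine isMonHom_of_pts h fun x y => kv_injective ?_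
    rw [σ.dec x, σ.dec y, σ.mul_pair, kv_mul, hh, hh, hh, hF, ev_add ψ]
    have hc := shift_carry (Nat.le_add_left 1 n) (Nat.le_succ n) (show n + 1 - n = 1 by omega) (ev ψ (kv (x ≫ π))) (ev ψ (kv (y ≫ π)))
    simp only [map_add, map_sub] at hc ⊢
    rw [hc]
    abel
  · refine hom_ext_kv fun x => ?_
    have hx : x ≫ i = (kp (0 : TruncatedWittVector p 1 k) ≫ σ.s) * (kp (kv x) ≫ i) := by
      rw [σ.s_zero, _root_.one_mul, kp_kv]
    rw [← Category.assoc, hx, hh, show ev ψ (0 : TruncatedWittVector p 1 k) = 0 from map_zero (evHom ψ), ev_pad_zero,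
      hG0, zero_add, add_zero, kv_V]
  · haveI : IsReduced E.left := AbSchLib.isReduced_of_smooth E.hom
    refine hom_ext_kv fun x => ?_
    rw [σ.dec x, ← Category.assoc, kv_R, hh, map_add, truncate_pad, ← Category.assoc, kv_comp, σ.π_pair]
    have h0 : ∀ t, TruncatedWittVector.truncate (Nat.le_add_left 1 n) (WittGrp.shift p (Nat.le_add_right n 1) (R := k) t) = 0 :=
      fun t => TruncatedWittVector.ext fun j => by
        rw [TruncatedWittVector.coeff_truncate, WittGrp.coeff_shift, TruncatedWittVector.coeff_zero,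
          dif_neg (by simp)]
    rw [h0, add_zero]

theorem exists_pullback_of_W1_kernel {n m : ℕ} (hnm : n ≤ m) {i : Wk p k 1 ⟶ E} [IsMonHom i] {π : E ⟶ Wk p k n}
    [IsMonHom π] (σ : Split i π) :
    ∃ (f : Wk p k n ⟶ Wk p k m) (h : E ⟶ Wk p k (m + 1)), IsMonHom f ∧ IsMonHom h ∧
      i ≫ h = WittGrp.V p (Sk k) (Nat.le_add_left 1 m) ∧ h ≫ WittGrp.R p (Sk k) (Nat.le_add_right m 1) = π ≫ f := by
  obtain ⟨g₀, φ, hφ, hF⟩ := classify_W1 n σ.F σ.isCoc
  haveI := hφ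
  obtain ⟨Φ, hΦ, eΦ⟩ := (lift_one φ n).2
  haveI := hΦ
  let T := Φ ≫ WittGrp.V p (Sk k) (show n + 1 ≤ m + 1 by omega)
  let σ₀ := pad p k (Nat.le_succ n) ≫ T
  let h : E ⟶ Wk p k (m + 1) := ((σ.r * (π ≫ g₀)) ≫ WittGrp.V p (Sk k) (Nat.le_add_left 1 m)) * (π ≫ σ₀)
  let f := σ₀ ≫ WittGrp.R p (Sk k) (Nat.le_add_right m 1)
  have hh : ∀ u t, kv (((kp u ≫ σ.s) * (kp t ≫ i)) ≫ h) =
      WittGrp.shift p (Nat.le_add_left 1 m) (t + ev g₀ u) + ev σ₀ u := fun u t => by
    simp only [h, MonObj.comp_mul, kv_mul, ← Category.assoc, kv_comp, σ.π_pair, σ.r_pair, ev_V]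
  have hT : ∀ z : TruncatedWittVector p 1 k, ev T (WittGrp.shift p (Nat.le_add_left 1 n) z) =
      WittGrp.shift p (Nat.le_add_left 1 m) (ev φ z) := fun z => by
    have h1 := congrArg (fun q => ev q z) eΦ
    simp only [ev_comp, ev_V] at h1
    simp only [T, ev_comp, ev_V, ← h1]
    refine TruncatedWittVector.ext fun j => ?_
    simp only [WittGrp.coeff_shift]
    split_ifs <;> first | rfl | omega | (congr 1; ext; simp; omega)
  have hσ₀ : ∀ u v, ev σ₀ u + ev σ₀ v = ev σ₀ (u + v) +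
      WittGrp.shift p (Nat.le_add_left 1 m) (ev φ (ev2 (carry p k (Nat.le_succ n) (Nat.le_add_left 1 n)) u v)) := fun u v => by
    rw [← hT, shift_carry _ _ (by omega)]
    simp only [σ₀, ev_comp]
    rw [← ev_add T, ← ev_add T]
    congr 1
    abel
  have hg0 : ev g₀ 0 = 0 ∧ ev σ₀ 0 = 0 := by
    have h0 : ev σ₀ 0 = 0 := by
      simp only [σ₀, ev_comp, ev_pad_zero]
      exact map_zero (evHom T)
    refine ⟨?_, h0⟩
    have h' := hF 0 0
    have hc := hσ₀ 0 0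
    rw [add_zero, h0, zero_add] at hc
    rw [σ.F_zero, add_zero, add_sub_cancel_right,
      shift_injective (Nat.le_add_left 1 m) (((zero_add _).symm.trans hc.symm).trans (map_zero (WittGrp.shift p (Nat.le_add_left 1 m))).symm), add_zero] at h'
    exact h'.symm
  have htr : ∀ z, TruncatedWittVector.truncate (Nat.le_add_right m 1) (WittGrp.shift p (Nat.le_add_left 1 m) (R := k) z) = 0 :=
    fun z => TruncatedWittVector.ext fun j => by
      rw [TruncatedWittVector.coeff_truncate, WittGrp.coeff_shift, TruncatedWittVector.coeff_zero, dif_neg (by simp)]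
  refine ⟨f, h, isMonHom_of_ev _ fun u v => ?_, ?_, ?_, ?_⟩
  · have := congrArg (TruncatedWittVector.truncate (Nat.le_add_right m 1)) (hσ₀ u v)
    rw [map_add, map_add, htr, add_zero] at this
    simp only [f, ev_comp, ev_R]
    exact this.symm
  · refine isMonHom_of_pts h fun x y => kv_injective ?_
    rw [σ.dec x, σ.dec y, σ.mul_pair, kv_mul, hh, hh, hh, hF]
    simp only [map_add, map_sub]
    have hs := hσ₀ (kv (x ≫ π)) (kv (y ≫ π))
    linear_combination (norm := abel) (-1 : ℤ) • hs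
  · refine hom_ext_kv fun x => ?_
    have hx : x ≫ i = (kp (0 : TruncatedWittVector p n k) ≫ σ.s) * (kp (kv x) ≫ i) := by
      rw [σ.s_zero, _root_.one_mul, kp_kv]
    rw [← Category.assoc, hx, hh, hg0.1, hg0.2, add_zero, add_zero, kv_V]
  · haveI : IsReduced E.left := AbSchLib.isReduced_of_smooth E.hom
    refine hom_ext_kv fun x => ?_
    rw [σ.dec x, ← Category.assoc, kv_R, hh, map_add, htr, zero_add, ← Category.assoc, kv_comp, σ.π_pair]
    simp only [f, ev_comp, ev_R]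

theorem exists_pushout_of_W1_quotient {n m : ℕ} (hnm : n ≤ m) {i : Wk p k n ⟶ E} [IsMonHom i] {π : E ⟶ Wk p k 1}
    [IsMonHom π] (σ : Split i π) :
    ∃ (g : Wk p k m ⟶ Wk p k n) (h : Wk p k (m + 1) ⟶ E), IsMonHom g ∧ IsMonHom h ∧
      WittGrp.V p (Sk k) (Nat.le_add_right m 1) ≫ h = g ≫ i ∧ h ≫ π = WittGrp.R p (Sk k) (Nat.le_add_left 1 m) := by
  obtain ⟨G, ψ, hψ, hF⟩ := classify_Wn n σ.F σ.isCoc
  haveI := hψ
  obtain ⟨Φ, hΦ, eΦ⟩ := (lift_one ψ n).1
  haveI := hΦ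
  let R1 := WittGrp.R p (Sk k) (Nat.le_add_left 1 m)
  let T := WittGrp.R p (Sk k) (show n + 1 ≤ m + 1 by omega) ≫ Φ
  let τ := (T * (R1 ≫ ψ ≫ pad p k (Nat.le_add_left 1 n))⁻¹) ≫ high p k (Nat.le_succ n)
  let ζ := τ * (R1 ≫ G)⁻¹
  let h : Wk p k (m + 1) ⟶ E := (R1 ≫ σ.s) * (ζ ≫ i)
  let g := WittGrp.V p (Sk k) (Nat.le_add_right m 1) ≫ ζ
  have hh : ∀ v, kp v ≫ h = (kp (TruncatedWittVector.truncate (Nat.le_add_left 1 m) v) ≫ σ.s) * (kp (ev ζ v) ≫ i) :=
    fun v => by simp only [h, MonObj.comp_mul, ← Category.assoc, comp_kp, R1, ev_R]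
  have hτ : ∀ v, WittGrp.shift p (Nat.le_succ n) (ev τ v) = ev T v -
      ev (pad p k (Nat.le_add_left 1 n)) (ev ψ (TruncatedWittVector.truncate (Nat.le_add_left 1 m) v)) := fun v => by
    simp only [τ, ev_comp]
    rw [shift_high _ fun j hj => ?_]
    · simp only [ev_mul, ev_inv, ev_comp, R1, ev_R, sub_eq_add_neg]
    · refine lowZero_of_truncate_eq_zero (Nat.le_add_left 1 n) ?_ j (by omega)
      have h1 := congrArg (fun q => ev q (TruncatedWittVector.truncate (show n + 1 ≤ m + 1 by omega) v)) eΦ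
      simp only [ev_comp, ev_R, TruncatedWittVector.truncate_truncate] at h1
      simp only [ev_mul, ev_inv, ev_comp, R1, ev_R, T, map_add, map_neg, truncate_pad]
      rw [← h1, add_neg_cancel]
  have hcτ : ∀ v w, ev2 (carry p k (Nat.le_add_left 1 n) (Nat.le_succ n))
      (ev ψ (TruncatedWittVector.truncate (Nat.le_add_left 1 m) v))
      (ev ψ (TruncatedWittVector.truncate (Nat.le_add_left 1 m) w)) = ev τ (v + w) - ev τ v - ev τ w := fun v w => by
    refine shift_injective (Nat.le_succ n) ?_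
    rw [shift_carry _ _ (by omega), map_sub, map_sub, hτ, hτ, hτ, map_add, ev_add ψ, ev_add T]
    abel
  have hadd : ∀ v w, ev ζ (v + w) = ev2 σ.F (TruncatedWittVector.truncate (Nat.le_add_left 1 m) v)
      (TruncatedWittVector.truncate (Nat.le_add_left 1 m) w) + (ev ζ v + ev ζ w) := fun v w => by
    rw [hF, hcτ]
    simp only [ζ, ev_mul, ev_inv, ev_comp, R1, ev_R, map_add]
    abel
  have htr : ∀ z, TruncatedWittVector.truncate (Nat.le_add_left 1 m) (WittGrp.shift p (Nat.le_add_right m 1) (R := k) z) = 0 :=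
    fun z => TruncatedWittVector.ext fun j => by
      rw [TruncatedWittVector.coeff_truncate, WittGrp.coeff_shift, TruncatedWittVector.coeff_zero, dif_neg (by simp)]
  refine ⟨g, h, isMonHom_of_ev _ fun u v => ?_, ?_, ?_, ?_⟩
  · simp only [g, ev_comp, ev_V, map_add]
    rw [hadd, htr, htr, σ.F_zero, zero_add]
  · haveI := smooth_W p k (m + 1)
    refine isMonHom_of_pts h fun x y => ?_
    rw [← kp_kv x, ← kp_kv y, ← kp_add, hh, hh, hh, σ.mul_pair, map_add, hadd]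
  · refine hom_ext_pts fun x => ?_
    rw [← kp_kv x, ← Category.assoc, comp_kp, ev_V, hh, htr, σ.s_zero, _root_.one_mul, ← Category.assoc, comp_kp]
    simp only [g, ev_comp, ev_V]
  · refine hom_ext_kv fun x => ?_
    rw [← kp_kv x, ← Category.assoc, hh, σ.π_pair, kv_R, kv_kp]

theorem pushout_unique {n : ℕ} (hn : 1 ≤ n) {i : Wk p k 1 ⟶ E} [IsMonHom i] {π : E ⟶ Wk p k n} [IsMonHom π]
    (hker : AlgGrp.IsKernel i π) (σ : Split i π) {φ φ' : Wk p k 1 ⟶ Wk p k 1} {g g' : Wk p k (n + 1) ⟶ E}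
    [IsMonHom g] [IsMonHom g']
    (hg : WittGrp.V p (Sk k) (Nat.le_add_left 1 n) ≫ g = φ ≫ i)
    (hg' : WittGrp.V p (Sk k) (Nat.le_add_left 1 n) ≫ g' = φ' ≫ i)
    (e : g ≫ π = g' ≫ π) : φ' = φ := by
  obtain ⟨d, hd⟩ := kernel_lift hker g g' e
  have hdv : ∀ v, kp v ≫ g' = (kp v ≫ g) * (kp (ev d v) ≫ i) := fun v => by
    rw [← hd, MonObj.comp_mul, ← Category.assoc (kp v) d, comp_kp]
  haveI : IsMonHom d := isMonHom_of_ev _ fun v w => σ.i_injective (by
    refine mul_left_cancel (a := kp (v + w) ≫ g) ?_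
    rw [← hdv, kp_add, MonObj.mul_comp, MonObj.mul_comp, hdv, hdv, kp_add, MonObj.mul_comp, _root_.mul_mul_mul_comm])
  obtain ⟨d', hd', ed⟩ := exists_factor_R (Nat.le_add_left 1 n) le_rfl d
  haveI := hd'
  refine ext_ev fun z => σ.i_injective ?_
  have h0 : ev d (WittGrp.shift p (Nat.le_add_left 1 n) z) = 0 := by
    have : TruncatedWittVector.truncate (Nat.le_add_left 1 n) (WittGrp.shift p (Nat.le_add_left 1 n) z) = 0 :=
      TruncatedWittVector.ext fun j => by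
        rw [TruncatedWittVector.coeff_truncate, WittGrp.coeff_shift, TruncatedWittVector.coeff_zero,
          dif_neg (by simp; omega)]
    rw [← ed, ev_comp, ev_R, this]
    exact map_zero (evHom d')
  have h1 := hdv (WittGrp.shift p (Nat.le_add_left 1 n) z)
  rw [h0, kp_zero, MonObj.one_comp, _root_.mul_one, ← ev_V, ← comp_kp, Category.assoc, hg', Category.assoc, hg,
    ← Category.assoc, comp_kp, ← Category.assoc, comp_kp] at h1
  exact h1

theorem pullback_unique {n : ℕ} (hn : 1 ≤ n) {i : Wk p k n ⟶ E} [IsMonHom i] {π : E ⟶ Wk p k 1} [IsMonHom π]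
    (σ : Split i π) {ψ ψ' : Wk p k 1 ⟶ Wk p k 1} {h h' : E ⟶ Wk p k (n + 1)} [IsMonHom h] [IsMonHom h']
    (e : i ≫ h = i ≫ h') (hh : h ≫ WittGrp.R p (Sk k) (Nat.le_add_left 1 n) = π ≫ ψ)
    (hh' : h' ≫ WittGrp.R p (Sk k) (Nat.le_add_left 1 n) = π ≫ ψ') : ψ' = ψ := by
  let d : Wk p k 1 ⟶ Wk p k (n + 1) := (σ.s ≫ h') * (σ.s ≫ h)⁻¹
  have hd : ∀ u, ev d u = kv ((kp u ≫ σ.s) ≫ h') - kv ((kp u ≫ σ.s) ≫ h) := fun u => by
    have h1 : kp u ≫ d = kp (ev d u) := comp_kp _ _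
    rw [← kv_kp (ev d u), ← h1]
    refine eq_sub_of_add_eq ?_
    simp only [d, MonObj.comp_mul, GrpObj.comp_inv, ← kv_mul, inv_mul_cancel_right, Category.assoc]
  haveI : IsMonHom d := isMonHom_of_ev _ fun u v => by
    have hi : ∀ t, kv ((kp t ≫ i) ≫ h') = kv ((kp t ≫ i) ≫ h) := fun t => by rw [Category.assoc, Category.assoc, e]
    have h1 := congrArg (fun z => kv (z ≫ h')) (σ.mul_eq u v)
    have h2 := congrArg (fun z => kv (z ≫ h)) (σ.mul_eq u v)
    simp only [MonObj.mul_comp, kv_mul, hi] at h1 h2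
    rw [hd, hd, hd]
    linear_combination (norm := abel) (-1 : ℤ) • h1 + h2
  obtain ⟨d', -, ed⟩ := exists_factor_V (Nat.le_add_left 1 n) le_rfl d
  refine ext_ev fun u => sub_eq_zero.1 ?_
  have h1 := congrArg (fun q => kv ((kp u ≫ σ.s) ≫ q)) hh
  have h2 := congrArg (fun q => kv ((kp u ≫ σ.s) ≫ q)) hh'
  simp only [← Category.assoc, kv_R] at h1 h2
  rw [← kv_kp (ev ψ' u), ← kv_kp (ev ψ u)]
  have hq : ∀ q : Wk p k 1 ⟶ Wk p k 1, kv (((kp u ≫ σ.s) ≫ π) ≫ q) = ev q u := fun q => by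
    rw [kv_comp, σ.π_s]
  rw [kv_kp, kv_kp, ← hq, ← hq, ← h1, ← h2, ← map_sub, ← hd, ← ed, ev_comp, ev_V]
  exact TruncatedWittVector.ext fun j => by
    rw [TruncatedWittVector.coeff_truncate, WittGrp.coeff_shift, TruncatedWittVector.coeff_zero, dif_neg (by simp; omega)]

end Groth.Agent.WittPts
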