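import Groth.Agent.WittPts.Lift
import Groth.Prelude.Def_SGA7IX
import Mathlib.AlgebraicGeometry.Morphisms.FinitePresentation
import Mathlib.AlgebraicGeometry.Morphisms.QuasiFinite

/-!
# Isogenies of Witt group schemes
-/

set_option autoImplicit false
set_option linter.style.haveILetI false

universe u

open CategoryTheory CategoryTheory.Limits MonoidalCategory CartesianMonoidalCategory MonObj AlgebraicGeometry

noncomputable section

namespace Groth.Agent.WittPts

/-- A nonempty constructible subset of an affine Jacobson scheme contains a closed point. -/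
theorem exists_closedPoint_of_isConstructible {Y : Scheme.{u}} [IsAffine Y] [JacobsonSpace Y] {s : Set Y}
    (hs : Topology.IsConstructible s) : s.Nonempty → (s ∩ closedPoints Y).Nonempty := by
  haveI : Nonempty Y.affineOpens := ⟨⟨⊤, isAffineOpen_top Y⟩⟩
  induction s, hs using Topology.IsConstructible.induction_of_isTopologicalBasis
      (b := fun U : Y.affineOpens => ((U : Y.Opens) : Set Y)) with
  | basis =>
    have h : Set.range (fun U : Y.affineOpens => ((U : Y.Opens) : Set Y)) =
        (fun U : Y.Opens => (U : Set Y)) '' Y.affineOpens := by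
      rw [Set.range_comp' (fun U : Y.Opens => (U : Set Y))]
      simp
    rw [h]
    exact Y.isBasis_affineOpens
  | isCompact_basis U => exact U.2.isCompact
  | sdiff U t ht =>
    exact fun h => nonempty_inter_closedPoints h
      ((U : Y.Opens).isOpen.isLocallyClosed.inter
        ((isOpen_biUnion fun (j : Y.affineOpens) _ => (j : Y.Opens).isOpen).isClosed_compl.isLocallyClosed))
  | union s _ t _ ihs iht =>
    rintro ⟨x, hx | hx⟩
    · exact (ihs ⟨x, hx⟩).mono (Set.inter_subset_inter_left _ Set.subset_union_left)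
    · exact (iht ⟨x, hx⟩).mono (Set.inter_subset_inter_left _ Set.subset_union_right)

variable {p : ℕ} [hp : Fact p.Prime] {k : Type u} [Field k] [IsAlgClosed k] [CharP k p] {n : ℕ}

/-- An endomorphism of `W_{n+1}` either lands in `V` or is surjective with finite kernel on `k`-points. -/
theorem dichotomy (f : Wk p k (n + 1) ⟶ Wk p k (n + 1)) [IsMonHom f] :
    (∀ v, LowZero 1 (ev f v)) ∨ (Function.Surjective (ev f) ∧ {v | ev f v = 0}.Finite) := by
  obtain ⟨φ, hφ, eφ⟩ := exists_restrict (Nat.le_add_left 1 n) f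
  haveI := hφ
  obtain ⟨P, hP⟩ := exists_fn₁_poly φ
  have h0 : ∀ v, (ev f v).coeff 0 = P.eval (v.coeff 0) := fun v => by
    have h := congrArg (fun g => (ev g v).coeff 0) eφ
    simp only [ev_comp, ev_R, coeff_ev_one_one, TruncatedWittVector.coeff_truncate] at h
    rw [← hP]
    exact h.symm
  by_cases hP0 : P = 0
  · left
    intro v i hi
    rw [show i = 0 from Fin.ext (by simpa using hi), h0, hP0, Polynomial.eval_zero]
  right
  have hP00 : P.eval 0 = 0 := by
    have := h0 0
    rw [show ev f (0 : TruncatedWittVector p (n + 1) k) = 0 from map_zero (evHom f)] at this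
    simp only [TruncatedWittVector.coeff_zero] at this
    exact this.symm
  have hdeg : ∀ c : k, (P - Polynomial.C c).degree ≠ 0 := fun c hc => by
    have hC := Polynomial.eq_C_of_degree_le_zero hc.le
    have hPC : P = Polynomial.C ((P - Polynomial.C c).coeff 0 + c) := by
      rw [map_add, ← hC, sub_add_cancel]
    refine hP0 ?_
    rw [hPC] at hP00 ⊢
    rw [Polynomial.eval_C] at hP00
    rw [hP00, map_zero]
  have level : ∀ (j : ℕ) (hj : j < n + 1) (v : TruncatedWittVector p (n + 1) k), LowZero j v →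
      ∃ c : k, c ^ p ^ j = v.coeff ⟨j, hj⟩ ∧ (ev f v).coeff ⟨j, hj⟩ = P.eval c ^ p ^ j := fun j hj v hv => by
    obtain ⟨w, rfl⟩ := exists_smul_eq j hv
    refine ⟨w.coeff 0, ?_, ?_⟩
    · have h2 := (lowZero_pow_smul (lowZero_zero w) j).2 (by omega)
      simp only [Nat.zero_add] at h2
      exact h2.symm
    · rw [show ev f (p ^ j • w) = p ^ j • ev f w from map_nsmul (evHom f) _ w, ← h0]
      have h2 := (lowZero_pow_smul (lowZero_zero (ev f w)) j).2 (by omega)
      simp only [Nat.zero_add] at h2
      exact h2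
  refine ⟨fun v => ?_, ?_⟩
  · refine mem_of_lowZero (evHom f).range 0 (fun w _ => lowZero_zero w) (fun hm c => ?_) v (lowZero_zero v)
    obtain ⟨a, ha⟩ := IsAlgClosed.exists_root (P - Polynomial.C c) (hdeg c)
    exact ⟨_, ⟨TruncatedWittVector.mk p fun _ => a, rfl⟩, by
      have := h0 (TruncatedWittVector.mk p fun _ => a)
      rw [TruncatedWittVector.coeff_mk] at this
      exact this.trans (sub_eq_zero.1 (by simpa using ha))⟩
  · suffices H : ∀ d j, n + 1 ≤ j + d → {v | ev f v = 0 ∧ LowZero j v}.Finite from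
      (H (n + 1) 0 (by omega)).subset fun v hv => ⟨hv, lowZero_zero v⟩
    intro d
    induction d with
    | zero => exact fun j hj => (Set.finite_singleton 0).subset fun v hv => eq_zero_of_lowZero (by omega) hv.2
    | succ d ih =>
      intro j hj
      by_cases hjn : n + 1 ≤ j
      · exact (Set.finite_singleton 0).subset fun v hv => eq_zero_of_lowZero hjn hv.2
      have hlt : j < n + 1 := by omega
      have hfin : ((fun a : k => a ^ p ^ j) '' {a | P.IsRoot a}).Finite :=
        (Polynomial.finite_setOf_isRoot hP0).image _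
      refine Set.Finite.of_finite_fibers (fun v => TruncatedWittVector.coeff (⟨j, hlt⟩ : Fin (n + 1)) v)
        (hfin.subset ?_) fun x _ => ?_
      · rintro _ ⟨v, ⟨hv0, hv⟩, rfl⟩
        obtain ⟨c, hc, hc'⟩ := level j hlt v hv
        rw [hv0, TruncatedWittVector.coeff_zero] at hc'
        exact ⟨c, eq_zero_of_pow_eq_zero hc'.symm, hc⟩
      · rcases Set.eq_empty_or_nonempty ({v | ev f v = 0 ∧ LowZero j v} ∩
            (fun v => TruncatedWittVector.coeff (⟨j, hlt⟩ : Fin (n + 1)) v) ⁻¹' {x}) with he | ⟨v₀, ⟨hv₀0, hv₀⟩, hv₀x⟩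
        · rw [he]; exact Set.finite_empty
        refine ((ih (j + 1) (by omega)).image (· + v₀)).subset fun v ⟨⟨hv0, hv⟩, hvx⟩ => ⟨v + -v₀, ⟨?_, fun i hi => ?_⟩, by simp⟩
        · show (evHom f) (v + -v₀) = 0
          rw [map_add, map_neg, show evHom f v = 0 from hv0, show evHom f v₀ = 0 from hv₀0, neg_zero, add_zero]
        · rcases Nat.lt_succ_iff_lt_or_eq.mp hi with hi | hi
          · exact (lowZero_add hv (lowZero_neg hv₀)).1 i hi
          · rw [show i = (⟨j, hlt⟩ : Fin (n + 1)) from Fin.ext hi, (lowZero_add hv (lowZero_neg hv₀)).2 hlt,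
              coeff_neg_lowZero hv₀]
            exact add_neg_eq_zero.2 (hvx.trans hv₀x.symm)

theorem surjective_left_of_ev {m : ℕ} (f : Wk p k n ⟶ Wk p k m) (h : Function.Surjective (ev f)) :
    Surjective f.left := by
  haveI : JacobsonSpace (Wk p k m).left := LocallyOfFiniteType.jacobsonSpace (Wk p k m).hom
  haveI : IsNoetherianRing Γ(Sk k, ⊤) :=
    isNoetherianRing_of_ringEquiv k (Scheme.ΓSpecIso (CommRingCat.of k)).commRingCatIsoToRingEquiv.symm
  haveI : LocallyOfFinitePresentation (Wk p k m).hom :=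
    inferInstanceAs (LocallyOfFinitePresentation (𝔸(ULift.{u} (Fin m); Spec (CommRingCat.of k)) ↘ Spec (CommRingCat.of k)))
  haveI : LocallyOfFinitePresentation (f.left ≫ (Wk p k m).hom) := by
    rw [Over.w f]
    exact inferInstanceAs (LocallyOfFinitePresentation (𝔸(ULift.{u} (Fin n); Spec (CommRingCat.of k)) ↘ Spec (CommRingCat.of k)))
  haveI : IsLocallyNoetherian (Wk p k m).left := LocallyOfFiniteType.isLocallyNoetherian (Wk p k m).hom
  haveI : LocallyOfFiniteType (f.left ≫ (Wk p k m).hom) := by rw [Over.w f]; infer_instance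
  haveI : LocallyOfFiniteType f.left := locallyOfFiniteType_of_comp f.left (Wk p k m).hom
  haveI : LocallyOfFinitePresentation f.left := inferInstance
  refine ⟨fun y => by_contra fun hy => ?_⟩
  have hc : Topology.IsConstructible (Set.range f.left)ᶜ := by
    rw [Topology.isConstructible_compl, ← Set.image_univ]
    exact f.left.isConstructible_image Topology.IsConstructible.univ
  obtain ⟨z, hz, hzc⟩ := exists_closedPoint_of_isConstructible hc ⟨y, hy⟩
  let q : 𝟙_ (Over (Sk k)) ⟶ Wk p k m :=
    Over.homMk (pointOfClosedPoint (Wk p k m).hom z hzc) (pointOfClosedPoint_comp _ z hzc)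
  obtain ⟨v, hv⟩ := h (kv q)
  obtain ⟨x, rfl⟩ := kv_surjective v
  rw [← kv_comp] at hv
  refine hz ⟨x.left (IsLocalRing.closedPoint k), ?_⟩
  have := congrArg (fun s : 𝟙_ (Over (Sk k)) ⟶ Wk p k m => s.left (IsLocalRing.closedPoint k)) (kv_injective hv)
  exact this.trans (pointOfClosedPoint_apply _ z hzc _)

theorem isFinite_kernel {m : ℕ} (f : Wk p k n ⟶ Wk p k m) (h : {v | ev f v = 0}.Finite)
    {N : Over (Sk k)} (i : N ⟶ Wk p k n) (hN : AlgGrp.IsKernel i f) : IsFinite N.hom := by
  haveI : IsClosedImmersion η[Wk p k m].left := by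
    haveI : IsClosedImmersion (η[Wk p k m].left ≫ (Wk p k m).hom) := by
      rw [Over.w]; exact (inferInstance : IsClosedImmersion (𝟙 (Sk k)))
    exact IsClosedImmersion.of_comp η[Wk p k m].left (Wk p k m).hom
  haveI : IsClosedImmersion i.left :=
    MorphismProperty.of_isPullback (P := @IsClosedImmersion) (IsPullback.map (Over.forget _) hN).flip ‹_›
  haveI : Mono i := Over.mono_of_mono_left i
  haveI : LocallyOfFiniteType N.hom := by rw [← Over.w i]; infer_instance
  haveI : JacobsonSpace N.left := LocallyOfFiniteType.jacobsonSpace N.hom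
  haveI : Finite (closedPoints N.left) := by
    haveI : Finite {v | ev f v = 0} := h.to_subtype
    refine Finite.of_injective (fun z : closedPoints N.left =>
      (⟨kv (Over.homMk (U := 𝟙_ (Over (Sk k))) (pointOfClosedPoint N.hom z.1 z.2) (pointOfClosedPoint_comp _ _ _) ≫ i), ?_⟩ :
        {v | ev f v = 0})) fun z z' hzz => ?_
    · show ev f _ = 0
      rw [← kv_comp, Category.assoc, hN.w, ← kv_one]
      congr 1
      rw [← Category.assoc, toUnit_unique (_ ≫ toUnit N) (toUnit _)]
      rfl
    · have h1 := (cancel_mono i).mp (kv_injective (congrArg Subtype.val hzz))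
      have h2 := congrArg (fun s : 𝟙_ (Over (Sk k)) ⟶ N => s.left (IsLocalRing.closedPoint k)) h1
      exact Subtype.ext ((pointOfClosedPoint_apply N.hom z.1 z.2 _).symm.trans
        (h2.trans (pointOfClosedPoint_apply N.hom z'.1 z'.2 _)))
  haveI : DiscreteTopology N.left := JacobsonSpace.discreteTopology (Set.toFinite _)
  haveI : IsAffine N.left := isAffine_of_isAffineHom i.left
  haveI : Finite N.left := finite_of_compact_of_discrete
  haveI : LocallyQuasiFinite N.hom := LocallyQuasiFinite.of_finite_preimage_singleton _ fun x => Set.toFinite _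
  exact IsFinite.of_locallyQuasiFinite N.hom

/-- The isogeny criterion. -/
theorem not_isIsogenyOver_iff (f : Wk p k (n + 1) ⟶ Wk p k (n + 1)) [IsMonHom f] :
    ¬ SGA7.IsIsogenyOver f ↔ ∀ v, LowZero 1 (ev f v) := by
  constructor
  · intro h
    refine (dichotomy f).resolve_right fun ⟨hs, hk⟩ => h ⟨surjective_left_of_ev f hs, fun N i hN => isFinite_kernel f hk i hN⟩
  · rintro h ⟨-, hfin⟩
    have hN : AlgGrp.IsKernel (pullback.fst f η[Wk p k (n + 1)]) f := by
      have h1 : pullback.snd f η[Wk p k (n + 1)] = toUnit _ := toUnit_unique _ _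
      show IsPullback _ (toUnit _) f η
      rw [← h1]
      exact IsPullback.of_hasPullback _ _
    haveI := hfin _ _ hN
    haveI : Finite (pullback f η[Wk p k (n + 1)]).left := by
      haveI : Subsingleton (Sk k) := inferInstanceAs (Subsingleton (PrimeSpectrum k))
      have hu := (pullback f η[Wk p k (n + 1)]).hom.finite_preimage (Set.toFinite (Set.univ : Set (Sk k)))
      rw [Set.preimage_univ] at hu
      exact Set.finite_univ_iff.mp hu
    have hker : ∀ c : k, ∃ q : 𝟙_ (Over (Sk k)) ⟶ pullback f η[Wk p k (n + 1)],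
        (kv (q ≫ pullback.fst f η[Wk p k (n + 1)])).coeff (Fin.last n) = c := fun c => by
      let v : TruncatedWittVector p (n + 1) k := TruncatedWittVector.mk p fun i => if i = Fin.last n then c else 0
      have hv : LowZero n v := fun i hi => by
        rw [TruncatedWittVector.coeff_mk, if_neg (fun e => by simp [e] at hi)]
      obtain ⟨w, hw⟩ := exists_smul_eq n hv
      have hfv : ev f v = 0 := by
        rw [← hw, show ev f (p ^ n • w) = p ^ n • ev f w from map_nsmul (evHom f) _ w]
        exact eq_zero_of_lowZero (by omega) (lowZero_pow_smul (h w) n).1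
      obtain ⟨x, hx⟩ := kv_surjective v
      have hxf : x ≫ f = 𝟙 _ ≫ η[Wk p k (n + 1)] := by
        refine kv_injective ?_
        rw [kv_comp, hx, hfv, ← kv_one (p := p) (k := k) (n := n + 1)]
        congr 1
      exact ⟨pullback.lift x (𝟙 _) hxf, by rw [pullback.lift_fst, hx, TruncatedWittVector.coeff_mk, if_pos rfl]⟩
    choose q hq using hker
    haveI : Infinite k := IsAlgClosed.instInfinite
    refine not_injective_infinite_finite (fun c => (q c).left (IsLocalRing.closedPoint k)) fun c c' hcc => ?_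
    have h2 : q c = q c' := Over.OverMorphism.ext (ext_of_apply_closedPoint_eq _ (Over.w (q c)) (Over.w (q c')) hcc)
    rw [← hq c, ← hq c', h2]

end Groth.Agent.WittPts

namespace Groth.Agent.WittPts

variable {p : ℕ} [hp : Fact p.Prime] {k : Type u} [Field k] [IsAlgClosed k] [CharP k p]

theorem V_comp_R (a : ℕ) : WittGrp.V p (Sk k) (Nat.le_succ (a + 1)) ≫ WittGrp.R p (Sk k) (Nat.le_succ (a + 1)) =
    WittGrp.R p (Sk k) (Nat.le_succ a) ≫ WittGrp.V p (Sk k) (Nat.le_succ a) := by
  refine ext_ev fun v => TruncatedWittVector.ext fun i => ?_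
  simp only [ev_comp, ev_R, ev_V, WittGrp.coeff_shift, TruncatedWittVector.coeff_truncate, Fin.val_castLE]
  split_ifs <;> first | rfl | omega | (congr 1; ext; simp)

theorem lift_iff_not_isIsogeny (n : ℕ) (f : Wk p k (n + 1) ⟶ Wk p k (n + 1)) [IsMonHom f] :
    (∃ g : Wk p k (n + 1) ⟶ Wk p k (n + 2), IsMonHom g ∧ g ≫ WittGrp.R p (Sk k) (Nat.le_succ (n + 1)) = f) ↔
      ¬ SGA7.IsIsogenyOver f := by
  rw [not_isIsogenyOver_iff]
  constructor
  · rintro ⟨g, hg, e⟩ v i hi
    haveI := hg
    have h0 : p ^ (n + 1) • ev g v = 0 := by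
      rw [← show ev g (p ^ (n + 1) • v) = p ^ (n + 1) • ev g v from map_nsmul (evHom g) _ v, pow_smul_eq_zero v le_rfl]
      exact map_zero (evHom g)
    rw [← e, ev_comp, ev_R, TruncatedWittVector.coeff_truncate]
    exact lowZero_of_smul_eq_zero (n + 1) _ h0 _ (by simp only [Fin.val_castLE]; omega)
  · intro hf
    obtain ⟨h, hh, eh⟩ := exists_factor_V_of_lowZero (Nat.le_succ n) f fun v i hi => hf v i (by omega)
    haveI := hh
    obtain ⟨h', hh', eh'⟩ := exists_factor_R (Nat.le_succ n) le_rfl h
    haveI := hh'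
    obtain ⟨h'', hh'', eh''⟩ := exists_lift n h'
    haveI := hh''
    refine ⟨h'' ≫ WittGrp.V p (Sk k) (Nat.le_succ (n + 1)), inferInstance, ?_⟩
    rw [Category.assoc, V_comp_R, ← Category.assoc, ← eh'', eh', eh]

theorem extend_iff_not_isIsogeny (n : ℕ) (f : Wk p k (n + 1) ⟶ Wk p k (n + 1)) [IsMonHom f] :
    (∃ g : Wk p k (n + 2) ⟶ Wk p k (n + 1), IsMonHom g ∧ WittGrp.V p (Sk k) (Nat.le_succ (n + 1)) ≫ g = f) ↔
      ¬ SGA7.IsIsogenyOver f := by
  rw [not_isIsogenyOver_iff]
  constructor
  · rintro ⟨g, hg, e⟩ v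
    haveI := hg
    obtain ⟨h, hh, eh⟩ := exists_factor_R (Nat.le_succ (n + 1)) le_rfl g
    haveI := hh
    rw [← e, ← eh, ← Category.assoc, V_comp_R, ev_comp, ev_comp, ev_V]
    obtain ⟨w, hw⟩ := exists_smul_eq 1
      (v := WittGrp.shift p (Nat.le_succ n) (ev (WittGrp.R p (Sk k) (Nat.le_succ n)) v))
      (fun i hi => lowZero_shift _ _ i (by omega))
    rw [← hw, show ev h (p ^ 1 • w) = p ^ 1 • ev h w from map_nsmul (evHom h) _ w]
    exact fun i hi => (lowZero_pow_smul (lowZero_zero (ev h w)) 1).1 i (by omega)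
  · intro hf
    obtain ⟨h, hh, eh⟩ := exists_factor_V_of_lowZero (Nat.le_succ n) f fun v i hi => hf v i (by omega)
    haveI := hh
    obtain ⟨h', hh', eh'⟩ := exists_factor_R (Nat.le_succ n) le_rfl h
    haveI := hh'
    obtain ⟨τ, hτ, eτ⟩ := exists_extend n h'
    haveI := hτ
    refine ⟨WittGrp.R p (Sk k) (Nat.le_succ (n + 1)) ≫ τ, inferInstance, ?_⟩
    rw [← Category.assoc, V_comp_R, Category.assoc, ← eτ, ← Category.assoc, eh', eh]

end Groth.Agent.WittPts
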