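import Groth.Agent.WittPts.Hom

/-!
# Extending endomorphisms of Witt group schemes
-/

set_option autoImplicit false
set_option linter.style.haveILetI false

universe u

open CategoryTheory CategoryTheory.Limits MonoidalCategory CartesianMonoidalCategory MonObj AlgebraicGeometry Opposite

noncomputable section

namespace Groth.Agent.WittPts

variable {p : ℕ} [hp : Fact p.Prime] {k : Type u} [Field k] [IsAlgClosed k] [CharP k p] {n : ℕ}

/-- Endomorphisms of `W_1` lift to all `W_N` through `R` and `V`. -/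
def Good (p : ℕ) [Fact p.Prime] {k : Type u} [Field k] (φ : k → k) : Prop :=
  ∀ n : ℕ,
    (∃ Φ : Wk p k (n + 1) ⟶ Wk p k (n + 1), IsMonHom Φ ∧ ∀ v, (ev Φ v).coeff 0 = φ (v.coeff 0)) ∧
      ∃ Φ : Wk p k (n + 1) ⟶ Wk p k (n + 1), IsMonHom Φ ∧ ∀ v, LowZero n v →
        LowZero n (ev Φ v) ∧ (ev Φ v).coeff (Fin.last n) = φ (v.coeff (Fin.last n))

/-- Multiplication by a Teichmüller lift. -/
def teich (p : ℕ) [Fact p.Prime] {k : Type u} [Field k] (n : ℕ) (a : k) : Wk p k n ⟶ Wk p k n :=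
  homOfPoly fun i => MvPolynomial.C (a ^ p ^ (i : ℕ)) * MvPolynomial.X i

omit [IsAlgClosed k] [CharP k p] in
theorem coeff_ev_teich (a : k) (v : TruncatedWittVector p n k) (i : Fin n) :
    (ev (teich p n a) v).coeff i = a ^ p ^ (i : ℕ) * v.coeff i := by
  rw [teich, coeff_ev_homOfPoly, map_mul, MvPolynomial.eval_C, MvPolynomial.eval_X]

omit [IsAlgClosed k] [CharP k p] in
theorem ev_teich (a : k) (v : TruncatedWittVector p n k) :
    ev (teich p n a) v = WittVector.truncate n (WittVector.teichmuller p a) * v := by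
  obtain ⟨X, rfl⟩ := WittVector.truncate_surjective p n k v
  refine TruncatedWittVector.ext fun i => ?_
  rw [coeff_ev_teich, ← map_mul, WittVector.coeff_truncate, WittVector.coeff_truncate,
    CommAlg4.teichmuller_mul_coeff]

omit [CharP k p] in
theorem isMonHom_teich (a : k) : IsMonHom (teich p n a) :=
  isMonHom_of_ev _ fun v w => by rw [ev_teich, ev_teich, ev_teich, mul_add]

theorem good_smul (a : k) : Good p fun x => a * x := fun n => by
  refine ⟨⟨teich p (n + 1) a, isMonHom_teich a, fun v => ?_⟩, ?_⟩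
  · rw [coeff_ev_teich]; simp
  · obtain ⟨b, hb⟩ := IsAlgClosed.exists_pow_nat_eq a (pow_pos hp.out.pos n)
    refine ⟨teich p (n + 1) b, isMonHom_teich b, fun v hv => ⟨fun i hi => ?_, ?_⟩⟩
    · rw [coeff_ev_teich, hv i hi, mul_zero]
    · rw [coeff_ev_teich]; simp [hb]

theorem good_add (f g : k → k) (hf : Good p f) (hg : Good p g) : Good p fun x => f x + g x := fun n => by
  obtain ⟨⟨Φ, hΦ, hΦv⟩, Φ', hΦ', hΦ'v⟩ := hf n
  obtain ⟨⟨Ψ, hΨ, hΨv⟩, Ψ', hΨ', hΨ'v⟩ := hg n
  haveI := hΦ; haveI := hΨ; haveI := hΦ'; haveI := hΨ'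
  refine ⟨⟨Φ * Ψ, isMonHom_mul Φ Ψ, fun v => ?_⟩, Φ' * Ψ', isMonHom_mul Φ' Ψ', fun v hv => ?_⟩
  · rw [ev_mul]
    exact (coeff_add_zero _ _ n.succ_pos).trans (congrArg₂ (· + ·) (hΦv v) (hΨv v))
  · obtain ⟨h1, h2⟩ := hΦ'v v hv
    obtain ⟨h3, h4⟩ := hΨ'v v hv
    rw [ev_mul]
    exact ⟨(lowZero_add h1 h3).1, ((lowZero_add h1 h3).2 n.lt_succ_self).trans (congrArg₂ (· + ·) h2 h4)⟩

omit [IsAlgClosed k] in
theorem natCast_Sk : (p : Γ(Sk k, ⊤)) = 0 := by
  rw [← map_natCast (Scheme.ΓSpecIso (CommRingCat.of k)).inv.hom p]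
  exact (congrArg _ (CharP.cast_eq_zero k p)).trans (map_zero _)

theorem good_frob (f : k → k) (hf : Good p f) : Good p fun x => f (x ^ p) := fun n => by
  obtain ⟨⟨Φ, hΦ, hΦv⟩, Φ', hΦ', hΦ'v⟩ := hf n
  haveI := hΦ; haveI := hΦ'
  let F := WittGrp.F p (n + 1) (Sk k) natCast_Sk
  refine ⟨⟨F ≫ Φ, inferInstance, fun v => ?_⟩, F ≫ Φ', inferInstance, fun v hv => ?_⟩
  · rw [ev_comp, hΦv, coeff_ev_F]
  · have h : LowZero n (ev F v) := fun i hi => by rw [coeff_ev_F, hv i hi, zero_pow hp.out.ne_zero]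
    rw [ev_comp]
    exact ⟨(hΦ'v _ h).1, by rw [(hΦ'v _ h).2, coeff_ev_F]⟩

/-- The function underlying an endomorphism of `W_1`. -/
def fn₁ (φ : Wk p k 1 ⟶ Wk p k 1) (c : k) : k := (ev φ (TruncatedWittVector.mk p fun _ => c)).coeff 0

theorem coeff_ev_one_one (φ : Wk p k 1 ⟶ Wk p k 1) (v : TruncatedWittVector p 1 k) :
    (ev φ v).coeff 0 = fn₁ φ (v.coeff 0) := by
  rw [fn₁]
  congr 2
  exact TruncatedWittVector.ext fun i => by rw [Subsingleton.elim i 0, TruncatedWittVector.coeff_mk]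

theorem exists_fn₁_poly (φ : Wk p k 1 ⟶ Wk p k 1) : ∃ P : Polynomial k, ∀ c, fn₁ φ c = P.eval c := by
  obtain ⟨P, rfl⟩ := exists_poly φ
  refine ⟨MvPolynomial.aeval (fun _ => Polynomial.X) (P 0), fun c => ?_⟩
  rw [fn₁, coeff_ev_homOfPoly, Polynomial.eval, ← Polynomial.coe_eval₂RingHom,
    MvPolynomial.aeval_def, MvPolynomial.eval₂_comp_left]
  simp only [Polynomial.coe_eval₂RingHom, Function.comp_def, Polynomial.eval₂_X, TruncatedWittVector.coeff_mk]
  rw [MvPolynomial.eval₂_eq_eval_map]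
  congr 1
  rw [show (Polynomial.eval₂RingHom (RingHom.id k) c).comp (algebraMap k (Polynomial k)) = RingHom.id k from
    RingHom.ext fun x => by simp, MvPolynomial.map_id]

theorem good_fn₁ (φ : Wk p k 1 ⟶ Wk p k 1) [IsMonHom φ] : Good p (fn₁ φ) := by
  obtain ⟨P, hP⟩ := exists_fn₁_poly φ
  have hadd : ∀ x y, fn₁ φ (x + y) = fn₁ φ x + fn₁ φ y := fun x y => by
    have h : (TruncatedWittVector.mk p (fun _ : Fin 1 => x + y)) =
        TruncatedWittVector.mk p (fun _ : Fin 1 => x) + TruncatedWittVector.mk p fun _ : Fin 1 => y :=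
      TruncatedWittVector.ext fun i => by
        rw [Subsingleton.elim i ⟨0, Nat.zero_lt_one⟩, coeff_add_zero]; simp
    rw [fn₁, h, ev_add]
    exact coeff_add_zero _ _ Nat.zero_lt_one
  rw [funext hP]
  exact additive_induction (Good p) good_smul good_add good_frob P fun x y => by rw [← hP, ← hP, ← hP, hadd]

/-- Restriction of an endomorphism. -/
theorem exists_restrict {a b : ℕ} (hab : a ≤ b) (Φ : Wk p k b ⟶ Wk p k b) [IsMonHom Φ] :
    ∃ g : Wk p k a ⟶ Wk p k a, IsMonHom g ∧ WittGrp.R p (Sk k) hab ≫ g = Φ ≫ WittGrp.R p (Sk k) hab :=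
  exists_factor_R hab le_rfl _

theorem exists_restrict_V {a b : ℕ} (hab : a ≤ b) (Φ : Wk p k b ⟶ Wk p k b) [IsMonHom Φ] :
    ∃ g : Wk p k a ⟶ Wk p k a, IsMonHom g ∧ g ≫ WittGrp.V p (Sk k) hab = WittGrp.V p (Sk k) hab ≫ Φ :=
  exists_factor_V hab le_rfl _

theorem lift_one (φ : Wk p k 1 ⟶ Wk p k 1) [IsMonHom φ] (n : ℕ) :
    (∃ Φ : Wk p k (n + 1) ⟶ Wk p k (n + 1), IsMonHom Φ ∧
      WittGrp.R p (Sk k) (Nat.le_add_left 1 n) ≫ φ = Φ ≫ WittGrp.R p (Sk k) (Nat.le_add_left 1 n)) ∧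
    ∃ Φ : Wk p k (n + 1) ⟶ Wk p k (n + 1), IsMonHom Φ ∧
      φ ≫ WittGrp.V p (Sk k) (Nat.le_add_left 1 n) = WittGrp.V p (Sk k) (Nat.le_add_left 1 n) ≫ Φ := by
  obtain ⟨⟨Φ, hΦ, hΦv⟩, Φ', hΦ', hΦ'v⟩ := good_fn₁ φ n
  refine ⟨⟨Φ, hΦ, ext_ev fun v => TruncatedWittVector.ext fun i => ?_⟩, Φ', hΦ', ext_ev fun v => ?_⟩
  · rw [Subsingleton.elim i 0, ev_comp, ev_comp, coeff_ev_one_one, ev_R, ev_R, TruncatedWittVector.coeff_truncate,
      TruncatedWittVector.coeff_truncate]
    exact (hΦv v).symm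
  · rw [ev_comp, ev_comp, ev_V, ev_V]
    have hlow : ∀ w : TruncatedWittVector p 1 k, LowZero n (WittGrp.shift p (Nat.le_add_left 1 n) w) := fun w i hi =>
      lowZero_shift _ w i (by omega)
    have hlast : ∀ w : TruncatedWittVector p 1 k,
        (WittGrp.shift p (Nat.le_add_left 1 n) w).coeff (Fin.last n) = w.coeff 0 := fun w => by
      rw [WittGrp.coeff_shift, dif_pos (by simp)]
      congr 1
      exact Subsingleton.elim _ _
    refine TruncatedWittVector.ext fun i => ?_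
    rcases (Nat.le_of_lt_succ i.2).lt_or_eq with hi | hi
    · rw [(hΦ'v _ (hlow v)).1 i hi, hlow _ i hi]
    · rw [show i = Fin.last n from Fin.ext hi, hlast, (hΦ'v _ (hlow v)).2, hlast, coeff_ev_one_one]

/-- Every endomorphism of `W_n` lifts through the restriction. -/
theorem exists_lift : ∀ (n : ℕ) (φ : Wk p k n ⟶ Wk p k n) [IsMonHom φ],
    ∃ ψ : Wk p k (n + 1) ⟶ Wk p k (n + 1), IsMonHom ψ ∧
      WittGrp.R p (Sk k) (Nat.le_succ n) ≫ φ = ψ ≫ WittGrp.R p (Sk k) (Nat.le_succ n) := by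
  intro n
  induction n with
  | zero =>
    intro φ _
    exact ⟨1, isMonHom_of_ev _ (fun v w => by simp [ev_one]), ext_ev fun v => TruncatedWittVector.ext fun i => i.elim0⟩
  | succ n ih =>
    intro φ _
    obtain ⟨φ₀, hφ₀, eφ₀⟩ := exists_restrict (Nat.le_add_left 1 n) φ
    haveI := hφ₀
    obtain ⟨Φ', hΦ', eΦ'⟩ := (lift_one φ₀ (n + 1)).1
    haveI := hΦ'
    obtain ⟨Φ, hΦ, eΦ⟩ := exists_restrict (Nat.le_succ (n + 1)) Φ'
    haveI := hΦ
    have e0 : ∀ v, TruncatedWittVector.truncate (Nat.le_add_left 1 n) (ev φ v) =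
        TruncatedWittVector.truncate (Nat.le_add_left 1 n) (ev Φ v) := fun v => by
      obtain ⟨w, rfl⟩ := TruncatedWittVector.truncate_surjective (Nat.le_succ (n + 1)) v
      have h1 := congrArg (fun f => ev f (TruncatedWittVector.truncate (Nat.le_succ (n + 1)) w)) eφ₀
      have h2 := congrArg (fun f => ev f w) eΦ
      have h3 := congrArg (fun f => ev f w) eΦ'
      simp only [ev_comp, ev_R] at h1 h2 h3
      rw [← h1, h2, TruncatedWittVector.truncate_truncate, TruncatedWittVector.truncate_truncate, ← h3]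
    let δ : TruncatedWittVector p (n + 1) k →+ TruncatedWittVector p (n + 1) k := evHom φ - evHom Φ
    have hδ : ∀ v, LowZero 1 (δ v) := fun v i hi => by
      have h := congrArg (fun z => TruncatedWittVector.coeff (⟨i, hi⟩ : Fin 1) z) (sub_eq_zero.2 (e0 v))
      simp only [← map_sub, TruncatedWittVector.coeff_truncate, TruncatedWittVector.coeff_zero] at h
      exact h
    have hev : ∀ v, ev (φ * Φ⁻¹) v = δ v := fun v => by
      have h := ev_mul (φ * Φ⁻¹) Φ v
      rw [inv_mul_cancel_right] at h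
      exact eq_sub_of_add_eq h.symm
    haveI : IsMonHom (φ * Φ⁻¹) := isMonHom_of_ev _ fun v w => by rw [hev, hev, hev, map_add]
    obtain ⟨h, hh, eh⟩ := exists_factor_V_of_lowZero (Nat.le_succ n) (φ * Φ⁻¹)
      (fun v i hi => by rw [hev]; exact hδ v i (by omega))
    haveI := hh
    obtain ⟨h', hh', eh'⟩ := exists_factor_R (Nat.le_succ n) le_rfl h
    haveI := hh'
    obtain ⟨h'', hh'', eh''⟩ := ih h'
    haveI := hh''
    let E := WittGrp.R p (Sk k) (Nat.le_succ (n + 1)) ≫ h'' ≫ WittGrp.V p (Sk k) (Nat.le_succ (n + 1))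
    haveI : IsMonHom E := inferInstance
    refine ⟨Φ' * E, isMonHom_mul Φ' E, ext_ev fun v => ?_⟩
    have h1 : ev φ (TruncatedWittVector.truncate (Nat.le_succ (n + 1)) v) =
        δ (TruncatedWittVector.truncate (Nat.le_succ (n + 1)) v) + ev Φ (TruncatedWittVector.truncate (Nat.le_succ (n + 1)) v) :=
      (sub_add_cancel _ _).symm
    have h2 := congrArg (fun f => ev f v) eΦ
    have h3 := congrArg (fun f => ev f (TruncatedWittVector.truncate (Nat.le_succ (n + 1)) v)) eh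
    have h4 := congrArg (fun f => ev f (TruncatedWittVector.truncate (Nat.le_succ (n + 1)) v)) eh'
    have h5 := congrArg (fun f => ev f (TruncatedWittVector.truncate (Nat.le_succ (n + 1)) v)) eh''
    simp only [ev_comp, ev_R, ev_V] at h2 h3 h4 h5
    rw [hev] at h3
    simp only [ev_comp, ev_R, ev_mul, E, ev_V, map_add]
    rw [h1, h2]
    refine (add_comm _ _).trans (congrArg₂ (· + ·) rfl ?_)
    rw [← h3, ← h4, h5]
    refine TruncatedWittVector.ext fun i => ?_
    simp only [WittGrp.coeff_shift, TruncatedWittVector.coeff_truncate, Fin.val_castLE]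
    split_ifs <;> first | rfl | omega | (congr 1; ext; simp)

/-- Every endomorphism of `W_n` extends along the shift. -/
theorem exists_extend : ∀ (n : ℕ) (ρ : Wk p k n ⟶ Wk p k n) [IsMonHom ρ],
    ∃ τ : Wk p k (n + 1) ⟶ Wk p k (n + 1), IsMonHom τ ∧
      ρ ≫ WittGrp.V p (Sk k) (Nat.le_succ n) = WittGrp.V p (Sk k) (Nat.le_succ n) ≫ τ := by
  intro n
  induction n with
  | zero =>
    intro ρ _
    refine ⟨1, isMonHom_of_ev _ (fun v w => by simp [ev_one]), ext_ev fun v => ?_⟩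
    rw [ev_comp, ev_comp, ev_one, ev_V, show ev ρ v = 0 from TruncatedWittVector.ext fun i => i.elim0, map_zero]
  | succ n ih =>
    intro ρ _
    obtain ⟨φ₀, hφ₀, eφ₀⟩ := exists_restrict_V (Nat.le_add_left 1 n) ρ
    haveI := hφ₀
    obtain ⟨Φ', hΦ', eΦ'⟩ := (lift_one φ₀ (n + 1)).2
    haveI := hΦ'
    obtain ⟨Φ, hΦ, eΦ⟩ := exists_restrict_V (Nat.le_succ (n + 1)) Φ'
    haveI := hΦ
    have hss : ∀ w : TruncatedWittVector p 1 k,
        WittGrp.shift p (Nat.le_succ (n + 1)) (WittGrp.shift p (Nat.le_add_left 1 n) w) =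
          WittGrp.shift p (Nat.le_add_left 1 (n + 1)) w := fun w => TruncatedWittVector.ext fun i => by
      simp only [WittGrp.coeff_shift]
      split_ifs <;> first | rfl | omega | (congr 1; ext; simp; omega)
    have e0 : ∀ w : TruncatedWittVector p 1 k, ev ρ (WittGrp.shift p (Nat.le_add_left 1 n) w) =
        ev Φ (WittGrp.shift p (Nat.le_add_left 1 n) w) := fun w => by
      refine shift_injective (Nat.le_succ (n + 1)) ?_
      have h1 := congrArg (fun f => ev f w) eφ₀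
      have h2 := congrArg (fun f => ev f (WittGrp.shift p (Nat.le_add_left 1 n) w)) eΦ
      have h3 := congrArg (fun f => ev f w) eΦ'
      simp only [ev_comp, ev_V] at h1 h2 h3
      rw [← h1, h2, hss, hss, h3]
    let δ : TruncatedWittVector p (n + 1) k →+ TruncatedWittVector p (n + 1) k := evHom ρ - evHom Φ
    have hev : ∀ v, ev (ρ * Φ⁻¹) v = δ v := fun v => by
      have h := ev_mul (ρ * Φ⁻¹) Φ v
      rw [inv_mul_cancel_right] at h
      exact eq_sub_of_add_eq h.symm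
    haveI : IsMonHom (ρ * Φ⁻¹) := isMonHom_of_ev _ fun v w => by rw [hev, hev, hev, map_add]
    have hδ : ∀ v, LowZero n v → δ v = 0 := fun v hv => by
      rw [← exists_shift_eq (Nat.le_add_left 1 n) (fun i hi => hv i (by omega))]
      exact sub_eq_zero.2 (e0 _)
    have key : ∀ v, p ^ n • δ v = 0 := fun v => by
      rw [← map_nsmul]
      refine hδ _ ?_
      have := (lowZero_pow_smul (lowZero_zero v) n).1
      simpa using this
    obtain ⟨h', hh', eh'⟩ := exists_factor_V_of_lowZero (Nat.le_succ n) (ρ * Φ⁻¹) (fun v i hi =>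
      lowZero_of_smul_eq_zero n _ (by rw [hev]; exact key v) i (by omega))
    haveI := hh'
    obtain ⟨h₁, hh₁, eh₁⟩ := exists_factor_R (Nat.le_succ n) le_rfl h'
    haveI := hh₁
    obtain ⟨h'', hh'', eh''⟩ := ih h₁
    haveI := hh''
    let E := WittGrp.R p (Sk k) (Nat.le_succ (n + 1)) ≫ h'' ≫ WittGrp.V p (Sk k) (Nat.le_succ (n + 1))
    haveI : IsMonHom E := inferInstance
    refine ⟨Φ' * E, isMonHom_mul Φ' E, ext_ev fun v => ?_⟩
    have h2 := congrArg (fun f => ev f v) eΦ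
    have h3 := congrArg (fun f => ev f v) eh'
    have h4 := congrArg (fun f => ev f v) eh₁
    have h5 := congrArg (fun f => ev f (TruncatedWittVector.truncate (Nat.le_succ n) v)) eh''
    simp only [ev_comp, ev_R, ev_V] at h2 h3 h4 h5
    rw [hev] at h3
    simp only [ev_comp, ev_R, ev_mul, E, ev_V]
    have hRV : TruncatedWittVector.truncate (Nat.le_succ (n + 1)) (WittGrp.shift p (Nat.le_succ (n + 1)) v) =
        WittGrp.shift p (Nat.le_succ n) (TruncatedWittVector.truncate (Nat.le_succ n) v) :=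
      TruncatedWittVector.ext fun i => by
        simp only [WittGrp.coeff_shift, TruncatedWittVector.coeff_truncate, Fin.val_castLE]
        split_ifs <;> first | rfl | omega | (congr 1; ext; simp)
    rw [hRV, ← h5, ← h2, ← map_add, h4, h3]
    exact congrArg _ (by simp [δ, evHom])

end Groth.Agent.WittPts
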