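import Groth.Agent.WittPts.Cocycle

/-!
# Classification of symmetric two-cocycles of Witt group schemes
-/

set_option autoImplicit false
set_option linter.style.haveILetI false

universe u

open CategoryTheory CategoryTheory.Limits MonoidalCategory CartesianMonoidalCategory MonObj AlgebraicGeometry Opposite

noncomputable section

namespace Groth.Agent.WittPts

variable {p : ℕ} [hp : Fact p.Prime] {k : Type u} [Field k] [IsAlgClosed k] [CharP k p]

theorem vec_ext_one {R : Type*} [CommRing R] {v w : TruncatedWittVector p 1 R} (h : v.coeff 0 = w.coeff 0) : v = w :=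
  TruncatedWittVector.ext fun i => by rw [Subsingleton.elim i 0]; exact h

omit [IsAlgClosed k] in
theorem exists_poly₂ (f : Wk p k 1 ⊗ Wk p k 1 ⟶ Wk p k 1) :
    ∃ F : MvPolynomial (Fin 2) k, ∀ v w, (ev2 f v w).coeff 0 = MvPolynomial.eval ![v.coeff 0, w.coeff 0] F := by
  obtain ⟨P, hP⟩ := exists_poly ((splitIso p (Sk k) 1 1).hom ≫ f)
  refine ⟨P 0, fun v w => ?_⟩
  have h : ev2 f v w = kv ((lift (kp v) (kp w) ≫ (splitIso p (Sk k) 1 1).inv) ≫ homOfPoly P) := by
    rw [← hP, Category.assoc, Iso.inv_hom_id_assoc]; rfl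
  rw [h, coeff_kv_homOfPoly]
  refine congrArg (fun z => MvPolynomial.eval z (P 0)) (funext fun j => ?_)
  rw [coeff_kv]
  have hcoord : ∀ j : Fin (1 + 1), (splitIso p (Sk k) 1 1).inv.left.appTop (WittGrp.coord p j) =
      Fin.addCases (fun i => (WittGrp.pts p _ (Additive.ofMul (fst (Wk p k 1) (Wk p k 1)))).coeff i)
        (fun i => (WittGrp.pts p _ (Additive.ofMul (snd (Wk p k 1) (Wk p k 1)))).coeff i) j := fun j => by
    rw [← WittGrp.coeff_pts]; exact coeff_ofCoeffs _ _
  rw [Over.comp_left, Scheme.Hom.comp_appTop, CommRingCat.comp_apply, hcoord]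
  induction j using Fin.addCases with
  | left i =>
    rw [Fin.addCases_left, ← coeff_comp, lift_fst, ← WittGrp.coeff_truncMap]
    show (kv (kp v)).coeff i = _
    rw [kv_kp, Subsingleton.elim i 0]
    rfl
  | right i =>
    rw [Fin.addCases_right, ← coeff_comp, lift_snd, ← WittGrp.coeff_truncMap]
    show (kv (kp w)).coeff i = _
    rw [kv_kp, Subsingleton.elim i 0]
    rfl

theorem lazard (f : Wk p k 1 ⊗ Wk p k 1 ⟶ Wk p k 1) (hf : IsCoc (ev2 f)) :
    ∃ (g φ : Wk p k 1 ⟶ Wk p k 1), IsMonHom φ ∧ ∀ v w,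
      ev2 f v w = ev g v + ev g w - ev g (v + w) + ev φ (ev2 (carry p k (Nat.le_succ 1) (Nat.le_succ 1)) v w) := by
  haveI : Infinite k := IsAlgClosed.instInfinite
  haveI : ExpChar k p := ExpChar.prime hp.out
  obtain ⟨F, hF⟩ := exists_poly₂ f
  let one : k → TruncatedWittVector p 1 k := fun c => TruncatedWittVector.mk p fun _ => c
  have hone : ∀ c, (one c).coeff 0 = c := fun c => TruncatedWittVector.coeff_mk _ _
  have hadd : ∀ v w : TruncatedWittVector p 1 k, (v + w).coeff 0 = v.coeff 0 + w.coeff 0 := fun v w =>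
    coeff_add_zero v w Nat.zero_lt_one
  have e : ∀ x y : k, MvPolynomial.eval ![x, y] F = (ev2 f (one x) (one y)).coeff 0 := fun x y => by rw [hF, hone, hone]
  have key : ∀ {n : ℕ} (z : Fin n → k) (u : Fin 2 → MvPolynomial (Fin n) k) (G : MvPolynomial (Fin 2) k),
      MvPolynomial.eval z (MvPolynomial.aeval u G) =
        MvPolynomial.eval ![MvPolynomial.eval z (u 0), MvPolynomial.eval z (u 1)] G := by
    intro n z u G
    have h : (MvPolynomial.eval z).comp (MvPolynomial.aeval u).toRingHom =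
        MvPolynomial.eval ![MvPolynomial.eval z (u 0), MvPolynomial.eval z (u 1)] :=
      MvPolynomial.ringHom_ext (fun r => by simp) (fun i => by fin_cases i <;> simp)
    exact RingHom.congr_fun h G
  have hsum : ∀ x y : k, one x + one y = one (x + y) := fun x y => vec_ext_one (by rw [hadd, hone, hone, hone])
  have hF' : GaLib.IsSymmCocycle F := by
    constructor
    · refine MvPolynomial.funext fun z => ?_
      rw [key]
      simp only [Matrix.cons_val_zero, Matrix.cons_val_one, MvPolynomial.eval_X]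
      have hz : MvPolynomial.eval z F = MvPolynomial.eval ![z 0, z 1] F := by
        congr 2; funext i; fin_cases i <;> rfl
      rw [hz, e, e, hf.symm]
    · refine MvPolynomial.funext fun z => ?_
      simp only [map_sub, map_add, map_zero, key, Matrix.cons_val_zero, Matrix.cons_val_one, MvPolynomial.eval_X, e]
      have h := congrArg (fun v => TruncatedWittVector.coeff (0 : Fin 1) v) (hf.assoc (one (z 0)) (one (z 1)) (one (z 2)))
      simp only [hadd, hsum] at h
      linear_combination h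
  obtain ⟨G, N, r, hFeq, -⟩ := hF'.exists_decomp (p := p)
  let g : Wk p k 1 ⟶ Wk p k 1 := homOfPoly fun _ => -Polynomial.aeval (MvPolynomial.X (0 : Fin 1)) G
  let φ : Wk p k 1 ⟶ Wk p k 1 := homOfPoly fun _ =>
    -∑ i ∈ Finset.range N, MvPolynomial.C (r i) * MvPolynomial.X (0 : Fin 1) ^ p ^ i
  have hg : ∀ v, (ev g v).coeff 0 = -G.eval (v.coeff 0) := fun v => by
    rw [coeff_ev_homOfPoly, map_neg]
    congr 1
    exact (Polynomial.aeval_algHom_apply (MvPolynomial.aeval (fun j => v.coeff j)) (MvPolynomial.X (0 : Fin 1)) G).symm.trans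
      (by simp)
  have hφ : ∀ v, (ev φ v).coeff 0 = -∑ i ∈ Finset.range N, r i * v.coeff 0 ^ p ^ i := fun v => by
    rw [coeff_ev_homOfPoly]
    simp
  refine ⟨g, φ, isMonHom_of_ev _ fun v w => vec_ext_one ?_, fun v w => vec_ext_one ?_⟩
  · rw [hadd, hφ, hφ, hφ, hadd]
    simp only [add_pow_char_pow, mul_add, Finset.sum_add_distrib]
    ring
  · rw [hadd, hφ, coeff_carry_one, hF]
    have hsub : (ev g v + ev g w - ev g (v + w)).coeff 0 = (ev g v).coeff 0 + (ev g w).coeff 0 - (ev g (v + w)).coeff 0 := by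
      have h := hadd (ev g v + ev g w - ev g (v + w)) (ev g (v + w))
      rw [sub_add_cancel, hadd] at h
      rw [h]; ring
    rw [hsub, hg, hg, hg, hadd, hFeq, map_add, GaLib.addDefect, map_sum]
    simp only [map_sub, map_mul, MvPolynomial.eval_C, eval_wittTerm]
    have hev : ∀ (z : MvPolynomial (Fin 2) k),
        MvPolynomial.eval ![v.coeff 0, w.coeff 0] (Polynomial.aeval z G) =
          G.eval (MvPolynomial.eval ![v.coeff 0, w.coeff 0] z) := fun z =>
      (Polynomial.aeval_algHom_apply (MvPolynomial.aeval ![v.coeff 0, w.coeff 0]) z G).symm.trans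
        (Polynomial.aeval_def _ _)
    simp only [hev, map_add, MvPolynomial.eval_X, Matrix.cons_val_zero, Matrix.cons_val_one]
    have hneg : ∀ (c : k) (i : ℕ), (-c) ^ p ^ i = -(c ^ p ^ i) := fun c i =>
      (map_neg (iterateFrobenius k p i) c : _)
    simp only [hneg, mul_neg, Finset.sum_neg_distrib, neg_neg]
    ring

/-- `v - pad (R v)`. -/
def rest (p : ℕ) [Fact p.Prime] (k : Type u) [Field k] {a b : ℕ} (h : a ≤ b) : Wk p k b ⟶ Wk p k b :=
  𝟙 _ * (WittGrp.R p (Sk k) h ≫ pad p k h)⁻¹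

omit [IsAlgClosed k] in
theorem ev_rest {a b : ℕ} (h : a ≤ b) (v : TruncatedWittVector p b k) :
    ev (rest p k h) v = v - ev (pad p k h) (TruncatedWittVector.truncate h v) := by
  rw [rest, ev_mul, ev_inv, ev_id, ev_comp, ev_R, sub_eq_add_neg]

/-- Every symmetric cocycle of `W_n` with values in `W_1` comes from `W_{n+1}`. -/
theorem classify_W1 : ∀ (n : ℕ) (f : Wk p k n ⊗ Wk p k n ⟶ Wk p k 1), IsCoc (ev2 f) →
    ∃ (g : Wk p k n ⟶ Wk p k 1) (φ : Wk p k 1 ⟶ Wk p k 1), IsMonHom φ ∧ ∀ v w,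
      ev2 f v w = ev g v + ev g w - ev g (v + w) +
        ev φ (ev2 (carry p k (Nat.le_succ n) (Nat.le_add_left 1 n)) v w) := by
  intro n
  induction n with
  | zero =>
    intro f hf
    refine ⟨lift (𝟙 _) (𝟙 _) ≫ f, 1, isMonHom_of_ev _ fun v w => by simp [ev_one], fun v w => ?_⟩
    have h0 : ∀ z : TruncatedWittVector p 0 k, z = 0 := fun z => TruncatedWittVector.ext fun i => i.elim0
    rw [h0 v, h0 w, add_zero, ev_lift_comp, ev_id, ev_one]
    abel
  | succ n ih =>
    intro f hf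
    let h1 : 1 ≤ n + 1 := Nat.le_add_left 1 n
    let f₁ := lift (fst _ _ ≫ WittGrp.V p (Sk k) h1) (snd _ _ ≫ WittGrp.V p (Sk k) h1) ≫ f
    have hf₁e : ∀ x y, ev2 f₁ x y = ev2 f (WittGrp.shift p h1 x) (WittGrp.shift p h1 y) := fun x y => by
      rw [ev2_lift_comp, ev2_comp, ev2_comp, ev2_fst, ev2_snd, ev_V, ev_V]
    obtain ⟨g₁, φ, hφ, hf₁⟩ := lazard f₁ ((hf.comap _ (map_add (WittGrp.shift p h1))).congr fun x y => (hf₁e x y).symm)
    haveI := hφ
    let cn := carry p k (Nat.le_succ (n + 1)) (Nat.le_add_left 1 (n + 1))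
    let f' := f * (delta (high p k h1 ≫ g₁))⁻¹ * (cn ≫ φ)⁻¹
    have hf'e : ∀ v w, ev2 f' v w = ev2 f v w - (ev (high p k h1 ≫ g₁) v + ev (high p k h1 ≫ g₁) w -
        ev (high p k h1 ≫ g₁) (v + w)) - ev φ (ev2 cn v w) := fun v w => by
      rw [ev2_mul, ev2_mul, ev2_inv, ev2_inv, ev2_delta, ev2_comp]; abel
    have hf' : IsCoc (ev2 f') :=
      ((hf.add (isCoc_defect (ev (high p k h1 ≫ g₁))).neg).add
        ((isCoc_carry (Nat.le_succ (n + 1)) (Nat.le_add_left 1 (n + 1)) (by omega)).map (ev φ) (ev_add φ)).neg).congr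
          fun v w => by rw [hf'e]; simp only [sub_eq_add_neg]; abel
    have hV : ∀ v w, LowZero n v → LowZero n w → ev2 f' v w = 0 := fun v w hv hw => by
      rw [← shift_high h1 (v := v) (fun i hi => hv i (by omega)), ← shift_high h1 (v := w) (fun i hi => hw i (by omega))]
      generalize ev (high p k h1) v = x
      generalize ev (high p k h1) w = y
      rw [hf'e, ← map_add, ev_comp, ev_comp, ev_comp, high_shift, high_shift, high_shift, carry_shift, ← hf₁e, hf₁]
      abel
    have hlz : LowZero n (0 : TruncatedWittVector p (n + 1) k) := fun i _ => TruncatedWittVector.coeff_zero p (n + 1) k i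
    have hf'0 : ∀ v, ev2 f' v 0 = 0 := fun v => by rw [hf'.apply_zero, hV 0 0 hlz hlz]
    let T := WittGrp.R p (Sk k) (Nat.le_succ n) ≫ pad p k (Nat.le_succ n)
    let g₂ := lift T (rest p k (Nat.le_succ n)) ≫ f'
    have hg₂ : ∀ v, ev g₂ v = ev2 f' (ev (pad p k (Nat.le_succ n)) (TruncatedWittVector.truncate (Nat.le_succ n) v))
        (v - ev (pad p k (Nat.le_succ n)) (TruncatedWittVector.truncate (Nat.le_succ n) v)) := fun v => by
      rw [ev_lift_comp, ev_comp, ev_R, ev_rest]
    let f'' := f' * delta g₂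
    have hf''e : ∀ v w, ev2 f'' v w = ev2 f' v w + (ev g₂ v + ev g₂ w - ev g₂ (v + w)) := fun v w => by
      rw [ev2_mul, ev2_delta]
    have hf'' : IsCoc (ev2 f'') := (hf'.add (isCoc_defect (ev g₂))).congr fun v w => (hf''e v w).symm
    have htr : ∀ t, LowZero n t → TruncatedWittVector.truncate (Nat.le_succ n) t = 0 := fun t ht =>
      TruncatedWittVector.ext fun i => by
        rw [TruncatedWittVector.coeff_truncate (p := p) (R := k), TruncatedWittVector.coeff_zero p n k i]
        exact ht _ (by simp)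
    have hg₂low : ∀ t, LowZero n t → ev g₂ t = 0 := fun t ht => by
      rw [hg₂, htr t ht, ev_pad_zero, sub_zero]
      exact hV _ _ hlz ht
    have hzσ : ∀ u t, LowZero n t → ev2 f'' (ev (pad p k (Nat.le_succ n)) u) t = 0 := fun u t ht => by
      rw [hf''e, hg₂low t ht, hg₂, hg₂]
      simp only [map_add, htr t ht, truncate_pad, add_zero, sub_self, hf'0, add_sub_cancel_left]
      abel
    have hz : ∀ v t, LowZero n t → ev2 f'' v t = 0 := fun v t ht => by
      set σ := ev (pad p k (Nat.le_succ n)) (TruncatedWittVector.truncate (Nat.le_succ n) v)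
      have hv : LowZero n (v - σ) :=
        lowZero_of_truncate_eq_zero (Nat.le_succ n) (by rw [map_sub, truncate_pad, sub_self])
      have h := hf''.assoc σ (v - σ) t
      have h2 : ev2 f'' (v - σ) t = 0 := by
        rw [hf''e, hg₂low _ hv, hg₂low t ht, hg₂low _ (lowZero_add hv ht).1, hV _ _ hv ht]; abel
      rw [add_sub_cancel, h2, hzσ _ _ (lowZero_add hv ht).1, hzσ _ _ hv, add_zero, add_zero] at h
      exact h.symm
    have hz' : ∀ v w t, LowZero n t → ev2 f'' v (w + t) = ev2 f'' v w := fun v w t ht => by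
      have h := hf''.assoc v w t
      rw [hz w t ht, hz (v + w) t ht, zero_add, zero_add] at h
      exact h
    have hfac : ∀ v w, ev2 f'' v w = ev2 f'' (ev (pad p k (Nat.le_succ n)) (TruncatedWittVector.truncate (Nat.le_succ n) v))
        (ev (pad p k (Nat.le_succ n)) (TruncatedWittVector.truncate (Nat.le_succ n) w)) := fun v w => by
      have hl : ∀ z : TruncatedWittVector p (n + 1) k,
          LowZero n (z - ev (pad p k (Nat.le_succ n)) (TruncatedWittVector.truncate (Nat.le_succ n) z)) := fun z =>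
        lowZero_of_truncate_eq_zero (Nat.le_succ n) (by rw [map_sub, truncate_pad, sub_self])
      conv_lhs => rw [← add_sub_cancel (ev (pad p k (Nat.le_succ n)) (TruncatedWittVector.truncate (Nat.le_succ n) w)) w]
      rw [hz' _ _ _ (hl w), hf''.symm]
      conv_lhs => rw [← add_sub_cancel (ev (pad p k (Nat.le_succ n)) (TruncatedWittVector.truncate (Nat.le_succ n) v)) v]
      rw [hz' _ _ _ (hl v), hf''.symm]
    let fb := lift (fst _ _ ≫ pad p k (Nat.le_succ n)) (snd _ _ ≫ pad p k (Nat.le_succ n)) ≫ f''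
    have hfbe : ∀ u u', ev2 fb u u' = ev2 f'' (ev (pad p k (Nat.le_succ n)) u) (ev (pad p k (Nat.le_succ n)) u') :=
      fun u u' => by rw [ev2_lift_comp, ev2_comp, ev2_comp, ev2_fst, ev2_snd]
    have hfb' : ∀ v w, ev2 f'' v w = ev2 fb (TruncatedWittVector.truncate (Nat.le_succ n) v)
        (TruncatedWittVector.truncate (Nat.le_succ n) w) := fun v w => by rw [hfbe, ← hfac]
    have hfb : IsCoc (ev2 fb) := by
      refine ⟨fun u u' => by rw [hfbe, hfbe, hf''.symm], fun u₁ u₂ u₃ => ?_⟩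
      have h := hf''.assoc (ev (pad p k (Nat.le_succ n)) u₁) (ev (pad p k (Nat.le_succ n)) u₂) (ev (pad p k (Nat.le_succ n)) u₃)
      simp only [hfb', map_add, truncate_pad] at h
      exact h
    obtain ⟨g₃, φ₃, hφ₃, h₃⟩ := ih fb hfb
    haveI := hφ₃
    let t₁ := rest p k (Nat.le_succ n) ≫ high p k h1
    refine ⟨(high p k h1 ≫ g₁) * g₂⁻¹ * (WittGrp.R p (Sk k) (Nat.le_succ n) ≫ g₃) * (t₁ ≫ φ₃)⁻¹, φ, hφ, fun v w => ?_⟩
    have hc : ev2 (carry p k (Nat.le_succ n) (Nat.le_add_left 1 n)) (TruncatedWittVector.truncate (Nat.le_succ n) v)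
        (TruncatedWittVector.truncate (Nat.le_succ n) w) = ev t₁ (v + w) - ev t₁ v - ev t₁ w := by
      refine shift_injective (Nat.le_add_left 1 n) ?_
      have ht : ∀ z, WittGrp.shift p (Nat.le_add_left 1 n) (ev t₁ z) = ev (rest p k (Nat.le_succ n)) z := fun z => by
        rw [ev_comp]
        refine shift_high _ fun i hi => ?_
        rw [ev_rest]
        exact lowZero_of_truncate_eq_zero (Nat.le_succ n) (by rw [map_sub, truncate_pad, sub_self]) i (by omega)
      rw [shift_carry _ _ (by omega), map_sub, map_sub, ht, ht, ht, ev_rest, ev_rest, ev_rest, map_add]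
      abel
    have hmain : ev2 f v w = ev2 fb (TruncatedWittVector.truncate (Nat.le_succ n) v)
        (TruncatedWittVector.truncate (Nat.le_succ n) w) - (ev g₂ v + ev g₂ w - ev g₂ (v + w)) +
        (ev (high p k h1 ≫ g₁) v + ev (high p k h1 ≫ g₁) w - ev (high p k h1 ≫ g₁) (v + w)) + ev φ (ev2 cn v w) := by
      rw [← hfb', hf''e, hf'e]; abel
    rw [hmain, h₃, hc]
    simp only [ev_mul, ev_inv, ev_comp, ev_R, map_add]
    have hs : ∀ a b, ev φ₃ (a - b) = ev φ₃ a - ev φ₃ b := map_sub (evHom φ₃)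
    rw [hs, hs]
    abel

/-- `φ` of the carry of `W_2` is cohomologous to the carry pulled back along an endomorphism. -/
theorem exists_pullback (φ : Wk p k 1 ⟶ Wk p k 1) [IsMonHom φ] :
    ∃ (h ψ : Wk p k 1 ⟶ Wk p k 1), IsMonHom ψ ∧ ∀ x y,
      ev φ (ev2 (carry p k (Nat.le_succ 1) (Nat.le_succ 1)) x y) = ev h x + ev h y - ev h (x + y) +
        ev2 (carry p k (Nat.le_succ 1) (Nat.le_succ 1)) (ev ψ x) (ev ψ y) := by
  let c := ev2 (carry p k (Nat.le_succ 1) (Nat.le_succ 1))
  have hc : IsCoc c := isCoc_carry _ _ rfl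
  let Q : (k → k) → Prop := fun F => ∃ (h ψ : Wk p k 1 ⟶ Wk p k 1), IsMonHom ψ ∧ ∀ x y,
    F ((c x y).coeff 0) = (ev h x + ev h y - ev h (x + y) + c (ev ψ x) (ev ψ y)).coeff 0
  obtain ⟨P, hP⟩ := exists_fn₁_poly φ
  have hadd : ∀ v w : TruncatedWittVector p 1 k, (v + w).coeff 0 = v.coeff 0 + w.coeff 0 := fun v w =>
    coeff_add_zero v w Nat.zero_lt_one
  have hQ : Q fun x => P.eval x := by
    refine additive_induction (p := p) Q (fun a => ?_) (fun F₁ F₂ h₁ h₂ => ?_) (fun F hF => ?_) P fun x y => ?_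
    · obtain ⟨b, hb⟩ := IsAlgClosed.exists_pow_nat_eq a hp.out.pos
      refine ⟨1, teich p 1 b, isMonHom_teich b, fun x y => ?_⟩
      simp only [ev_one, add_zero, sub_zero, zero_add, c, coeff_carry_one, coeff_ev_teich]
      simp [carrySum_mul, hb]
    · obtain ⟨g₁, ψ₁, hψ₁, e₁⟩ := h₁
      obtain ⟨g₂, ψ₂, hψ₂, e₂⟩ := h₂
      haveI := hψ₁; haveI := hψ₂
      let K := lift ψ₁ ψ₂ ≫ carry p k (Nat.le_succ 1) (Nat.le_succ 1)
      refine ⟨g₁ * g₂ * K, ψ₁ * ψ₂, isMonHom_mul ψ₁ ψ₂, fun x y => ?_⟩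
      simp only [e₁, e₂, ← hadd]
      refine congrArg (fun v => TruncatedWittVector.coeff (0 : Fin 1) v) ?_
      simp only [ev_mul, K, ev_lift_comp]
      rw [hc.add_arg, ev_add ψ₁, ev_add ψ₂]
      simp only [c]
      abel
    · obtain ⟨g, ψ, hψ, e⟩ := hF
      haveI := hψ
      refine ⟨WittGrp.F p 1 (Sk k) natCast_Sk ≫ g, WittGrp.F p 1 (Sk k) natCast_Sk ≫ ψ, inferInstance, fun x y => ?_⟩
      simp only [ev_comp]
      rw [ev_add (WittGrp.F p 1 (Sk k) natCast_Sk), ← e]
      refine congrArg F ?_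
      simp only [c, coeff_carry_one, coeff_ev_F]
      haveI : ExpChar k p := ExpChar.prime hp.out
      exact ((map_neg (frobenius k p) (carrySum p (x.coeff 0) (y.coeff 0))).trans
        (congrArg Neg.neg (map_carrySum (frobenius k p) _ _)) : _)
    · have h : ∀ s : k, P.eval s = (ev φ (TruncatedWittVector.mk p fun _ => s)).coeff 0 := fun s => by
        rw [coeff_ev_one_one, TruncatedWittVector.coeff_mk, hP]
      rw [h, h, h, ← hadd, ← ev_add]
      refine congrArg (fun v => TruncatedWittVector.coeff (0 : Fin 1) (ev φ v)) ?_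
      exact vec_ext_one (by rw [hadd]; simp)
  obtain ⟨h, ψ, hψ, e⟩ := hQ
  exact ⟨h, ψ, hψ, fun x y => vec_ext_one (by rw [coeff_ev_one_one, hP]; exact e x y)⟩

/-- Every symmetric cocycle of `W_1` with values in `W_n` is pulled back from `W_{n+1}`. -/
theorem classify_Wn : ∀ (n : ℕ) (F : Wk p k 1 ⊗ Wk p k 1 ⟶ Wk p k n), IsCoc (ev2 F) →
    ∃ (G : Wk p k 1 ⟶ Wk p k n) (ψ : Wk p k 1 ⟶ Wk p k 1), IsMonHom ψ ∧ ∀ x y,
      ev2 F x y = ev G x + ev G y - ev G (x + y) +
        ev2 (carry p k (Nat.le_add_left 1 n) (Nat.le_succ n)) (ev ψ x) (ev ψ y) := by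
  intro n
  induction n with
  | zero =>
    intro F _
    exact ⟨1, 1, isMonHom_of_ev _ fun v w => by simp [ev_one], fun x y => TruncatedWittVector.ext fun i => i.elim0⟩
  | succ n ih =>
    intro F hF
    let h1 : 1 ≤ n + 1 := Nat.le_add_left 1 n
    obtain ⟨g, φ, hφ, hf⟩ := lazard (F ≫ WittGrp.R p (Sk k) h1)
      ((hF.map _ (map_add (TruncatedWittVector.truncate h1))).congr fun x y => by rw [ev2_comp, ev_R])
    haveI := hφ
    obtain ⟨h, ψ, hψ, hφψ⟩ := exists_pullback φ
    haveI := hψ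
    let cn := carry p k (Nat.le_add_left 1 (n + 1)) (Nat.le_succ (n + 1))
    let G₁ := (g * h) ≫ pad p k h1
    let F' := F * (delta G₁)⁻¹ * (lift (fst _ _ ≫ ψ) (snd _ _ ≫ ψ) ≫ cn)⁻¹
    have hF'e : ∀ x y, ev2 F' x y = ev2 F x y - (ev G₁ x + ev G₁ y - ev G₁ (x + y)) - ev2 cn (ev ψ x) (ev ψ y) :=
      fun x y => by rw [ev2_mul, ev2_mul, ev2_inv, ev2_inv, ev2_delta, ev2_lift_comp, ev2_comp, ev2_comp, ev2_fst, ev2_snd]; abel
    have hF' : IsCoc (ev2 F') :=
      ((hF.add (isCoc_defect (ev G₁)).neg).add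
        ((isCoc_carry (Nat.le_add_left 1 (n + 1)) (Nat.le_succ (n + 1)) (by omega)).comap (ev ψ) (ev_add ψ)).neg).congr
          fun x y => by rw [hF'e]; simp only [sub_eq_add_neg]; abel
    have hlow : ∀ x y, LowZero 1 (ev2 F' x y) := fun x y => by
      refine lowZero_of_truncate_eq_zero h1 ?_
      have hf' := hf x y
      rw [ev2_comp, ev_R, hφψ] at hf'
      have hG : ∀ z, TruncatedWittVector.truncate h1 (ev G₁ z) = ev g z + ev h z := fun z => by
        rw [ev_comp, truncate_pad, ev_mul]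
      rw [hF'e, map_sub, map_sub, map_sub, map_add, hG, hG, hG, truncate_carry, hf']
      abel
    let F'' := F' ≫ high p k (Nat.le_succ n)
    have hF''e : ∀ x y, WittGrp.shift p (Nat.le_succ n) (ev2 F'' x y) = ev2 F' x y := fun x y => by
      rw [ev2_comp]
      exact shift_high _ fun i hi => hlow x y i (by omega)
    obtain ⟨G'', ψ'', hψ'', hF''⟩ := ih F''
      (IsCoc.of_injective (shift_injective (Nat.le_succ n)) (map_add _) (hF'.congr fun x y => (hF''e x y).symm))
    haveI := hψ''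
    refine ⟨G₁ * (G'' ≫ WittGrp.V p (Sk k) (Nat.le_succ n)) * (ψ'' ≫ pad p k (Nat.le_add_left 1 n)), ψ, hψ, fun x y => ?_⟩
    have hmain : ev2 F x y = WittGrp.shift p (Nat.le_succ n) (ev2 F'' x y) +
        (ev G₁ x + ev G₁ y - ev G₁ (x + y)) + ev2 cn (ev ψ x) (ev ψ y) := by
      rw [hF''e, hF'e]; abel
    rw [hmain, hF'', map_add, map_sub, map_add, shift_carry _ _ (by omega), ← ev_add ψ'']
    simp only [ev_mul, ev_comp, ev_V]
    abel

end Groth.Agent.WittPts
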