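import Groth.Agent.GaLib.Cocycle
import Groth.Agent.CommAlg4.WittTwist
import Mathlib.RingTheory.WittVector.Teichmuller
import Mathlib.Algebra.CharP.Frobenius

/-!
# The carry polynomial of Witt addition
-/

set_option autoImplicit false

universe u

open MvPolynomial

noncomputable section

namespace Groth.Agent.WittPts

variable {p : ℕ} [hp : Fact p.Prime]

/-- `((x + y) ^ p - x ^ p - y ^ p) / p`. -/
def carrySum (p : ℕ) {R : Type*} [CommRing R] (x y : R) : R :=
  ∑ j ∈ Finset.Ioo 0 p, ((p.choose j / p : ℕ) : R) * x ^ j * y ^ (p - j)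

omit hp in
theorem map_carrySum {R R' : Type*} [CommRing R] [CommRing R'] (f : R →+* R') (x y : R) :
    f (carrySum p x y) = carrySum p (f x) (f y) := by
  simp only [carrySum, map_sum, map_mul, map_pow, map_natCast]

theorem natCast_mul_carrySum {R : Type*} [CommRing R] (x y : R) :
    (p : R) * carrySum p x y = (x + y) ^ p - x ^ p - y ^ p := by
  have hrange : Finset.range (p + 1) = insert 0 (insert p (Finset.Ioo 0 p)) := by
    ext j; simp only [Finset.mem_range, Finset.mem_insert, Finset.mem_Ioo]; omega
  rw [add_pow, hrange, Finset.sum_insert (by simp [hp.out.ne_zero.symm]), Finset.sum_insert (by simp),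
    carrySum, Finset.mul_sum]
  have : ∀ j ∈ Finset.Ioo 0 p, (p : R) * (((p.choose j / p : ℕ) : R) * x ^ j * y ^ (p - j)) =
      x ^ j * y ^ (p - j) * (p.choose j : R) := by
    intro j hj
    rw [← mul_assoc, ← mul_assoc, ← Nat.cast_mul, GaLib.natCast_mul_choose_div p hj]
    ring
  rw [Finset.sum_congr rfl this]
  simp
  ring

theorem carrySum_mul {R : Type*} [CommRing R] (a x y : R) :
    carrySum p (a * x) (a * y) = a ^ p * carrySum p x y := by
  rw [carrySum, carrySum, Finset.mul_sum]
  refine Finset.sum_congr rfl fun j hj => ?_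
  rw [Finset.mem_Ioo] at hj
  rw [mul_pow, mul_pow, show a ^ p = a ^ j * a ^ (p - j) by rw [← pow_add, Nat.add_sub_cancel' hj.2.le]]
  ring

theorem carrySum_pow {R : Type*} [CommRing R] [CharP R p] (i : ℕ) (x y : R) :
    carrySum p x y ^ p ^ i = carrySum p (x ^ p ^ i) (y ^ p ^ i) := by
  haveI : ExpChar R p := ExpChar.prime hp.out
  simpa only [iterateFrobenius_def] using map_carrySum (p := p) (iterateFrobenius R p i) x y

theorem eval_wittTerm {R : Type u} [CommRing R] [CharP R p] (i : ℕ) (x y : R) :
    eval ![x, y] (GaLib.wittTerm p i : MvPolynomial (Fin 2) R) = carrySum p x y ^ p ^ i := by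
  rw [carrySum_pow]
  simp only [GaLib.wittTerm, carrySum, map_sum, map_mul, map_pow, aeval_C, aeval_X, algebraMap_eq, eval_C, eval_X,
    Matrix.cons_val_zero, Matrix.cons_val_one]

theorem coeff_one_teichmuller_add {R : Type u} [CommRing R] (x y : R) :
    (WittVector.teichmuller p x + WittVector.teichmuller p y).coeff 1 = -carrySum p x y := by
  let a : MvPolynomial (Fin 2) ℤ := X 0
  let b : MvPolynomial (Fin 2) ℤ := X 1
  have huniv : (WittVector.teichmuller p a + WittVector.teichmuller p b).coeff 1 = -carrySum p a b := by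
    set z := WittVector.teichmuller p a + WittVector.teichmuller p b
    have hz0 : z.coeff 0 = a + b := by
      rw [WittVector.add_coeff_zero, WittVector.teichmuller_coeff_zero, WittVector.teichmuller_coeff_zero]
    have h : WittVector.ghostComponent 1 z = a ^ p + b ^ p := by
      rw [map_add, WittVector.ghostComponent_teichmuller, WittVector.ghostComponent_teichmuller, pow_one]
    rw [WittVector.ghostComponent_apply, wittPolynomial_one] at h
    simp only [map_add, map_mul, map_pow, aeval_C, aeval_X, map_natCast, hz0] at h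
    have hp0 : (p : MvPolynomial (Fin 2) ℤ) ≠ 0 := by exact_mod_cast hp.out.ne_zero
    refine mul_left_cancel₀ hp0 ?_
    rw [mul_neg, natCast_mul_carrySum]
    linear_combination h
  let f : MvPolynomial (Fin 2) ℤ →+* R := eval₂Hom (Int.castRingHom R) ![x, y]
  have h := congrArg f huniv
  rw [map_neg, map_carrySum, ← WittVector.map_coeff, map_add, WittVector.map_teichmuller, WittVector.map_teichmuller] at h
  simpa [f, a, b] using h

end Groth.Agent.WittPts
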