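import Groth.Agent.WittPts.Lift
import Groth.Agent.WittPts.Carry

/-!
# Symmetric two-cocycles of Witt group schemes
-/

set_option autoImplicit false
set_option linter.style.haveILetI false

universe u

open CategoryTheory CategoryTheory.Limits MonoidalCategory CartesianMonoidalCategory MonObj AlgebraicGeometry Opposite

noncomputable section

namespace Groth.Agent.WittPts

/-- A symmetric two-cocycle. -/
structure IsCoc {A B : Type*} [AddCommGroup A] [AddCommGroup B] (f : A → A → B) : Prop where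
  symm : ∀ a b, f a b = f b a
  assoc : ∀ a b c, f b c + f a (b + c) = f (a + b) c + f a b

section Abstract

variable {A B C : Type*} [AddCommGroup A] [AddCommGroup B] [AddCommGroup C] {f f₁ f₂ : A → A → B}

theorem IsCoc.congr (h : IsCoc f₁) (e : ∀ a b, f₁ a b = f₂ a b) : IsCoc f₂ :=
  (show f₁ = f₂ from funext fun a => funext (e a)) ▸ h

theorem IsCoc.add (h₁ : IsCoc f₁) (h₂ : IsCoc f₂) : IsCoc fun a b => f₁ a b + f₂ a b :=
  ⟨fun a b => congrArg₂ (· + ·) (h₁.symm a b) (h₂.symm a b),
    fun a b c => by rw [add_add_add_comm, h₁.assoc, h₂.assoc, add_add_add_comm]⟩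

theorem IsCoc.map (h : IsCoc f) (φ : B → C) (hφ : ∀ x y, φ (x + y) = φ x + φ y) : IsCoc fun a b => φ (f a b) :=
  ⟨fun a b => congrArg φ (h.symm a b), fun a b c => by rw [← hφ, ← hφ, h.assoc]⟩

theorem IsCoc.neg (h : IsCoc f) : IsCoc fun a b => -f a b :=
  h.map Neg.neg fun x y => neg_add x y

theorem IsCoc.comap {A' : Type*} [AddCommGroup A'] (h : IsCoc f) (φ : A' → A) (hφ : ∀ x y, φ (x + y) = φ x + φ y) :
    IsCoc fun a b => f (φ a) (φ b) :=
  ⟨fun a b => h.symm _ _, fun a b c => by simp only [hφ]; exact h.assoc _ _ _⟩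

theorem isCoc_defect (g : A → B) : IsCoc fun a b => g a + g b - g (a + b) :=
  ⟨fun a b => by rw [add_comm a b]; abel, fun a b c => by rw [add_assoc a b c]; abel⟩

theorem IsCoc.apply_zero (h : IsCoc f) (a : A) : f a 0 = f 0 0 := by
  have := h.assoc a 0 0
  rw [add_zero, add_zero] at this
  exact (add_right_cancel this).symm

theorem IsCoc.of_injective {φ : B → C} (hφ : Function.Injective φ) (hadd : ∀ x y, φ (x + y) = φ x + φ y)
    (h : IsCoc fun a b => φ (f a b)) : IsCoc f :=
  ⟨fun a b => hφ (h.symm a b), fun a b c => hφ (by rw [hadd, hadd]; exact h.assoc a b c)⟩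

/-- A cocycle evaluated on sums. -/
theorem IsCoc.add_arg (h : IsCoc f) (a b a' b' : A) :
    f (a + b) (a' + b') = f a a' + f b b' + f (a + a') (b + b') - f a b - f a' b' := by
  have h1 := h.assoc a b (a' + b')
  have h2 := h.assoc a a' (b + b')
  have h3 := h.assoc b b' a'
  have h4 := h.assoc a' b' b
  have e1 : b + (a' + b') = a' + (b + b') := by abel
  rw [e1] at h1
  rw [show b' + a' = a' + b' from add_comm _ _] at h3
  rw [show b' + b = b + b' from add_comm _ _] at h4
  have s1 := h.symm b' a'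
  have s2 := h.symm a' (b + b')
  have s3 := h.symm (b + b') a'
  have s4 := h.symm b' b
  have s5 := h.symm (a' + b') b
  grind

end Abstract

variable {p : ℕ} [hp : Fact p.Prime] {k : Type u} [Field k] [CharP k p] {a b c d : ℕ}

/-- The point with given Witt vector. -/
def kp (v : TruncatedWittVector p a k) : 𝟙_ (Over (Sk k)) ⟶ Wk p k a := Function.surjInv kv_surjective v

theorem kv_kp (v : TruncatedWittVector p a k) : kv (kp v) = v := Function.surjInv_eq kv_surjective v

theorem kp_kv (x : 𝟙_ (Over (Sk k)) ⟶ Wk p k a) : kp (kv x) = x := kv_injective (kv_kp _)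

/-- The effect of a morphism of two variables on `k`-points. -/
def ev2 (f : Wk p k a ⊗ Wk p k b ⟶ Wk p k c) (v : TruncatedWittVector p a k) (w : TruncatedWittVector p b k) :
    TruncatedWittVector p c k :=
  kv (lift (kp v) (kp w) ≫ f)

theorem kv_lift_comp (f : Wk p k a ⊗ Wk p k b ⟶ Wk p k c) (x : 𝟙_ (Over (Sk k)) ⟶ Wk p k a)
    (y : 𝟙_ (Over (Sk k)) ⟶ Wk p k b) : kv (lift x y ≫ f) = ev2 f (kv x) (kv y) := by
  rw [ev2, kp_kv, kp_kv]

theorem ev2_fst (v : TruncatedWittVector p a k) (w : TruncatedWittVector p b k) :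
    ev2 (fst (Wk p k a) (Wk p k b)) v w = v := by
  rw [ev2, lift_fst, kv_kp]

theorem ev2_snd (v : TruncatedWittVector p a k) (w : TruncatedWittVector p b k) :
    ev2 (snd (Wk p k a) (Wk p k b)) v w = w := by
  rw [ev2, lift_snd, kv_kp]

theorem ev2_mul (f g : Wk p k a ⊗ Wk p k b ⟶ Wk p k c) (v : TruncatedWittVector p a k) (w : TruncatedWittVector p b k) :
    ev2 (f * g) v w = ev2 f v w + ev2 g v w := by
  rw [ev2, MonObj.comp_mul, kv_mul]; rfl

theorem ev2_inv (f : Wk p k a ⊗ Wk p k b ⟶ Wk p k c) (v : TruncatedWittVector p a k) (w : TruncatedWittVector p b k) :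
    ev2 f⁻¹ v w = -ev2 f v w := by
  refine eq_neg_of_add_eq_zero_left ?_
  rw [← ev2_mul, inv_mul_cancel, ev2, MonObj.comp_one, kv_one]

theorem ev2_comp (f : Wk p k a ⊗ Wk p k b ⟶ Wk p k c) (g : Wk p k c ⟶ Wk p k d) (v : TruncatedWittVector p a k)
    (w : TruncatedWittVector p b k) : ev2 (f ≫ g) v w = ev g (ev2 f v w) := by
  rw [ev2, ← Category.assoc, kv_comp]; rfl

theorem ev2_lift_comp {a' b' : ℕ} (A : Wk p k a ⊗ Wk p k b ⟶ Wk p k a') (B : Wk p k a ⊗ Wk p k b ⟶ Wk p k b')
    (f : Wk p k a' ⊗ Wk p k b' ⟶ Wk p k c) (v : TruncatedWittVector p a k) (w : TruncatedWittVector p b k) :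
    ev2 (lift A B ≫ f) v w = ev2 f (ev2 A v w) (ev2 B v w) := by
  rw [ev2, ← Category.assoc, comp_lift, kv_lift_comp]; rfl

theorem ev_lift_comp {a' b' : ℕ} (A : Wk p k a ⟶ Wk p k a') (B : Wk p k a ⟶ Wk p k b')
    (f : Wk p k a' ⊗ Wk p k b' ⟶ Wk p k c) (v : TruncatedWittVector p a k) :
    ev (lift A B ≫ f) v = ev2 f (ev A v) (ev B v) := by
  rw [ev, ← Category.assoc, comp_lift, kv_lift_comp]; rfl

theorem ev_inv (f : Wk p k a ⟶ Wk p k c) (v : TruncatedWittVector p a k) : ev f⁻¹ v = -ev f v := by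
  refine eq_neg_of_add_eq_zero_left ?_
  rw [← ev_mul, inv_mul_cancel, ev_one]

theorem smooth_W_tensor (a b : ℕ) : Smooth (Wk p k a ⊗ Wk p k b).hom := by
  haveI := smooth_W p k a
  haveI := smooth_W p k b
  rw [Over.tensorObj_hom]; infer_instance

instance isReduced_W_tensor (a b : ℕ) : IsReduced (Wk p k a ⊗ Wk p k b).left :=
  haveI := smooth_W_tensor (p := p) (k := k) a b
  AbSchLib.isReduced_of_smooth (Wk p k a ⊗ Wk p k b).hom

instance locallyOfFiniteType_W_tensor (a b : ℕ) : LocallyOfFiniteType (Wk p k a ⊗ Wk p k b).hom :=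
  haveI := smooth_W_tensor (p := p) (k := k) a b
  inferInstance

theorem ext_ev2 [IsAlgClosed k] {f g : Wk p k a ⊗ Wk p k b ⟶ Wk p k c} (h : ∀ v w, ev2 f v w = ev2 g v w) : f = g := by
  refine hom_ext_kv fun x => ?_
  rw [show x = lift (x ≫ fst _ _) (x ≫ snd _ _) by rw [← comp_lift, lift_fst_snd, Category.comp_id],
    kv_lift_comp, kv_lift_comp, h]

/-- `g v + g w - g (v + w)` as a morphism. -/
def delta (g : Wk p k a ⟶ Wk p k c) : Wk p k a ⊗ Wk p k a ⟶ Wk p k c :=
  (fst _ _ ≫ g) * (snd _ _ ≫ g) * ((fst _ _ * snd _ _) ≫ g)⁻¹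

theorem ev2_delta (g : Wk p k a ⟶ Wk p k c) (v w : TruncatedWittVector p a k) :
    ev2 (delta g) v w = ev g v + ev g w - ev g (v + w) := by
  simp only [delta, ev2_mul, ev2_inv, ev2_comp, ev2_fst, ev2_snd, sub_eq_add_neg]

/-- The last `c` components of a vector of length `b`. -/
def high (p : ℕ) [Fact p.Prime] (k : Type u) [Field k] {b c : ℕ} (_ : c ≤ b) : Wk p k b ⟶ Wk p k c :=
  homOfPoly fun i => MvPolynomial.X ⟨(i : ℕ) + (b - c), by omega⟩

theorem shift_high (h : c ≤ b) {v : TruncatedWittVector p b k} (hv : LowZero (b - c) v) :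
    WittGrp.shift p h (ev (high p k h) v) = v := by
  conv_rhs => rw [← exists_shift_eq h hv]
  congr 1
  refine TruncatedWittVector.ext fun i => ?_
  rw [TruncatedWittVector.coeff_mk, high, coeff_ev_homOfPoly, MvPolynomial.eval_X]

theorem high_shift (h : c ≤ b) (v : TruncatedWittVector p c k) : ev (high p k h) (WittGrp.shift p h v) = v :=
  TruncatedWittVector.ext fun i => by
    rw [high, coeff_ev_homOfPoly, MvPolynomial.eval_X, WittGrp.coeff_shift, dif_pos (by simp)]
    congr 1
    ext
    simp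

theorem coeff_ev_pad (h : a ≤ b) (v : TruncatedWittVector p a k) (i : Fin b) :
    (ev (pad p k h) v).coeff i = if hi : (i : ℕ) < a then v.coeff ⟨i, hi⟩ else 0 := by
  rw [pad, coeff_ev_homOfPoly]
  split_ifs <;> simp

theorem ev_pad_zero (h : a ≤ b) : ev (pad p k h) 0 = 0 :=
  TruncatedWittVector.ext fun i => by
    rw [coeff_ev_pad, TruncatedWittVector.coeff_zero]
    split_ifs <;> simp [TruncatedWittVector.coeff_zero]

theorem lowZero_of_truncate_eq_zero (h : a ≤ b) {v : TruncatedWittVector p b k}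
    (hv : TruncatedWittVector.truncate h v = 0) : LowZero a v := fun i hi => by
  have := congrArg (fun z => TruncatedWittVector.coeff (⟨i, hi⟩ : Fin a) z) hv
  simp only [TruncatedWittVector.coeff_truncate, TruncatedWittVector.coeff_zero] at this
  exact this

theorem lowZero_pad_defect (h : a ≤ b) (v w : TruncatedWittVector p a k) :
    LowZero a (ev (pad p k h) v + ev (pad p k h) w - ev (pad p k h) (v + w)) :=
  lowZero_of_truncate_eq_zero h (by rw [map_sub, map_add, truncate_pad, truncate_pad, truncate_pad, sub_self])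

/-- The carry cocycle of the extension `W_b` of `W_a` by `W_c`. -/
def carry (p : ℕ) [Fact p.Prime] (k : Type u) [Field k] {a b c : ℕ} (hab : a ≤ b) (hcb : c ≤ b) :
    Wk p k a ⊗ Wk p k a ⟶ Wk p k c :=
  delta (pad p k hab) ≫ high p k hcb

theorem shift_carry (hab : a ≤ b) (hcb : c ≤ b) (hc : b - c = a) (v w : TruncatedWittVector p a k) :
    WittGrp.shift p hcb (ev2 (carry p k hab hcb) v w) =
      ev (pad p k hab) v + ev (pad p k hab) w - ev (pad p k hab) (v + w) := by
  rw [carry, ev2_comp, ev2_delta, shift_high hcb (fun i hi => lowZero_pad_defect hab v w i (by omega))]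

theorem isCoc_carry (hab : a ≤ b) (hcb : c ≤ b) (hc : b - c = a) : IsCoc (ev2 (carry p k hab hcb)) :=
  IsCoc.of_injective (shift_injective hcb) (map_add _)
    ((isCoc_defect _).congr fun v w => (shift_carry hab hcb hc v w).symm)

theorem coeff_carry_one (x y : TruncatedWittVector p 1 k) :
    (ev2 (carry p k (Nat.le_succ 1) (Nat.le_succ 1)) x y).coeff 0 = -carrySum p (x.coeff 0) (y.coeff 0) := by
  have hsum : ev (pad p k (Nat.le_succ 1)) x + ev (pad p k (Nat.le_succ 1)) y =
      ev (pad p k (Nat.le_succ 1)) (x + y) + WittGrp.shift p (Nat.le_succ 1) (ev2 (carry p k (Nat.le_succ 1) (Nat.le_succ 1)) x y) := by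
    rw [shift_carry _ _ rfl]; abel
  have hT : ∀ z : TruncatedWittVector p 1 k,
      ev (pad p k (Nat.le_succ 1)) z = WittVector.truncate 2 (WittVector.teichmuller p (z.coeff 0)) := fun z => by
    refine TruncatedWittVector.ext fun i => ?_
    rw [coeff_ev_pad, WittVector.coeff_truncate]
    fin_cases i
    · simp [WittVector.teichmuller_coeff_zero]
    · simp [WittVector.teichmuller_coeff_pos p (z.coeff 0) 1 one_pos]
  have h := congrArg (fun z => TruncatedWittVector.coeff (1 : Fin 2) z) hsum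
  obtain ⟨X, hX⟩ := WittVector.truncate_surjective p 1 k (ev2 (carry p k (Nat.le_succ 1) (Nat.le_succ 1)) x y)
  rw [← hX, WittGrp.shift_truncate, hT, hT, hT, ← map_add (WittVector.truncate 2),
    ← map_add (WittVector.truncate 2)] at h
  simp only [WittVector.coeff_truncate, show ((1 : Fin 2) : ℕ) = 1 from rfl] at h
  rw [coeff_one_teichmuller_add] at h
  rw [← hX, WittVector.coeff_truncate]
  refine Eq.symm (h.trans ?_)
  rw [WittVector.coeff_add_of_disjoint]
  · rw [WittVector.teichmuller_coeff_pos p _ 1 one_pos, zero_add]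
    simp [WittVector.verschiebung_coeff_succ]
  · intro i
    rcases Nat.eq_zero_or_pos i with rfl | hi
    · right; simp
    · left; exact WittVector.teichmuller_coeff_pos p _ i hi

theorem pad_shift (h : a ≤ b) (v : TruncatedWittVector p a k) :
    ev (pad p k (Nat.le_succ b)) (WittGrp.shift p h v) =
      WittGrp.shift p (Nat.succ_le_succ h) (ev (pad p k (Nat.le_succ a)) v) := by
  refine TruncatedWittVector.ext fun i => ?_
  simp only [coeff_ev_pad, WittGrp.coeff_shift]
  split_ifs <;> first | rfl | omega | (congr 1; ext; simp)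

theorem carry_shift (n : ℕ) (x y : TruncatedWittVector p 1 k) :
    ev2 (carry p k (Nat.le_succ (n + 1)) (Nat.le_add_left 1 (n + 1))) (WittGrp.shift p (Nat.le_add_left 1 n) x)
        (WittGrp.shift p (Nat.le_add_left 1 n) y) =
      ev2 (carry p k (Nat.le_succ 1) (Nat.le_succ 1)) x y := by
  refine shift_injective (Nat.le_add_left 1 (n + 1)) ?_
  rw [shift_carry _ _ (by omega), pad_shift, pad_shift,
    ← map_add (WittGrp.shift p (Nat.le_add_left 1 n)), pad_shift, ← map_add, ← map_sub,
    ← shift_carry _ (Nat.le_succ 1) rfl]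
  refine TruncatedWittVector.ext fun i => ?_
  simp only [WittGrp.coeff_shift]
  split_ifs <;> first | rfl | omega | (congr 1; ext; simp; omega)

theorem truncate_carry (n : ℕ) (x y : TruncatedWittVector p 1 k) :
    TruncatedWittVector.truncate (Nat.le_add_left 1 n)
        (ev2 (carry p k (Nat.le_add_left 1 (n + 1)) (Nat.le_succ (n + 1))) x y) =
      ev2 (carry p k (Nat.le_succ 1) (Nat.le_succ 1)) x y := by
  refine shift_injective (Nat.le_succ 1) ?_
  have hcomm : ∀ v : TruncatedWittVector p (n + 1) k,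
      WittGrp.shift p (Nat.le_succ 1) (TruncatedWittVector.truncate (Nat.le_add_left 1 n) v) =
        TruncatedWittVector.truncate (Nat.le_add_left 2 n) (WittGrp.shift p (Nat.le_succ (n + 1)) v) := fun v => by
    refine TruncatedWittVector.ext fun i => ?_
    simp only [WittGrp.coeff_shift, TruncatedWittVector.coeff_truncate, Fin.val_castLE]
    split_ifs <;> first | rfl | omega | (congr 1; ext; simp)
  have hpad : ∀ z : TruncatedWittVector p 1 k, TruncatedWittVector.truncate (Nat.le_add_left 2 n)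
      (ev (pad p k (Nat.le_add_left 1 (n + 1))) z) = ev (pad p k (Nat.le_succ 1)) z := fun z => by
    refine TruncatedWittVector.ext fun i => ?_
    simp only [TruncatedWittVector.coeff_truncate, coeff_ev_pad, Fin.val_castLE]
  rw [hcomm, shift_carry _ _ (by omega), shift_carry _ _ rfl, map_sub, map_add, hpad, hpad, hpad]

end Groth.Agent.WittPts
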