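import Groth.Prelude.Def_WittGrp
import Groth.Agent.AbSchLib.SmoothReduced
import Mathlib.AlgebraicGeometry.AlgClosed.Basic
import Mathlib.Algebra.MvPolynomial.Funext

/-!
# `k`-points of Witt group schemes, morphisms as polynomials
-/

set_option autoImplicit false

universe u

open CategoryTheory CategoryTheory.Limits MonoidalCategory CartesianMonoidalCategory MonObj AlgebraicGeometry Opposite

noncomputable section

namespace Groth.Agent.WittPts

variable (p : ℕ) [Fact p.Prime] (k : Type u) [Field k]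

/-- The base. -/
abbrev Sk : Scheme.{u} := Spec (CommRingCat.of k)

/-- `W_n` over `k`. -/
abbrev Wk (n : ℕ) : Over (Sk k) := WittGrp.W p n (Sk k)

instance isAffine_W (n : ℕ) : IsAffine (Wk p k n).left :=
  inferInstanceAs (IsAffine 𝔸(ULift.{u} (Fin n); Spec (CommRingCat.of k)))

instance locallyOfFiniteType_W (n : ℕ) : LocallyOfFiniteType (Wk p k n).hom :=
  inferInstanceAs (LocallyOfFiniteType (𝔸(ULift.{u} (Fin n); Spec (CommRingCat.of k)) ↘ Spec (CommRingCat.of k)))

instance isSeparated_W (n : ℕ) : IsSeparated (Wk p k n).hom :=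
  inferInstanceAs (IsSeparated (𝔸(ULift.{u} (Fin n); Spec (CommRingCat.of k)) ↘ Spec (CommRingCat.of k)))

instance isReduced_W (n : ℕ) : IsReduced (Wk p k n).left :=
  isReduced_of_isOpenImmersion (AffineSpace.SpecIso (ULift.{u} (Fin n)) (CommRingCat.of k)).hom

instance connectedSpace_W (n : ℕ) : ConnectedSpace (Wk p k n).left :=
  haveI : IrreducibleSpace 𝔸(ULift.{u} (Fin n); Spec (CommRingCat.of k)) := inferInstance
  inferInstanceAs (ConnectedSpace 𝔸(ULift.{u} (Fin n); Spec (CommRingCat.of k)))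

theorem smooth_W (n : ℕ) : Smooth (Wk p k n).hom := by
  let e := AffineSpace.SpecIso (ULift.{u} (Fin n)) (CommRingCat.of k)
  show Smooth (𝔸(ULift.{u} (Fin n); Spec (CommRingCat.of k)) ↘ Spec (CommRingCat.of k))
  rw [← MorphismProperty.cancel_left_of_respectsIso (P := @Smooth) e.inv]
  show Smooth (e.inv ≫ 𝔸(ULift.{u} (Fin n); Spec (CommRingCat.of k)) ↘ Spec (CommRingCat.of k))
  rw [AffineSpace.SpecIso_inv_over, HasRingHomProperty.Spec_iff (P := @Smooth)]
  haveI : Algebra.Smooth k (MvPolynomial (ULift.{u} (Fin n)) k) := ⟨inferInstance, inferInstance⟩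
  exact (RingHom.smooth_algebraMap.mpr inferInstance : (algebraMap k (MvPolynomial (ULift.{u} (Fin n)) k)).Smooth)

/-- Global functions on `Spec k`. -/
abbrev Γk : Γ((𝟙_ (Over (Sk k))).left, ⊤) →+* k := (Scheme.ΓSpecIso (CommRingCat.of k)).hom.hom

theorem bijective_Γk : Function.Bijective (Γk k) :=
  ConcreteCategory.bijective_of_isIso (Scheme.ΓSpecIso (CommRingCat.of k)).hom

variable {p k} {n m : ℕ}

/-- The Witt vector of a `k`-point. -/
def kv (x : 𝟙_ (Over (Sk k)) ⟶ Wk p k n) : TruncatedWittVector p n k :=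
  WittGrp.truncMap p n (Γk k) (WittGrp.pts p _ (Additive.ofMul x))

theorem coeff_kv (x : 𝟙_ (Over (Sk k)) ⟶ Wk p k n) (i : Fin n) :
    (kv x).coeff i = Γk k (x.left.appTop (WittGrp.coord p i)) := by
  rw [kv, WittGrp.coeff_truncMap, WittGrp.coeff_pts]

theorem kv_injective : Function.Injective (kv : (𝟙_ (Over (Sk k)) ⟶ Wk p k n) → TruncatedWittVector p n k) :=
  fun _ _ h => WittGrp.pts_injective p _ (TruncatedWittVector.ext fun i => (bijective_Γk k).1 (by
    have h' := congrArg (fun v => v.coeff i) h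
    simpa only [kv, WittGrp.coeff_truncMap] using h'))

theorem kv_surjective : Function.Surjective (kv : (𝟙_ (Over (Sk k)) ⟶ Wk p k n) → TruncatedWittVector p n k) := fun v => by
  choose c hc using fun i => (bijective_Γk k).2 (v.coeff i)
  refine ⟨(WittGrp.ptsMul p _).symm (Multiplicative.ofAdd (TruncatedWittVector.mk p c)),
    TruncatedWittVector.ext fun i => ?_⟩
  have h : WittGrp.pts p (𝟙_ (Over (Sk k))) (Additive.ofMul ((WittGrp.ptsMul p (𝟙_ (Over (Sk k)))).symm
      (Multiplicative.ofAdd (TruncatedWittVector.mk p c)))) = TruncatedWittVector.mk p c := by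
    change Multiplicative.toAdd (WittGrp.ptsMul p _ ((WittGrp.ptsMul p _).symm _)) = _
    rw [MulEquiv.apply_symm_apply, toAdd_ofAdd]
  rw [kv, h, WittGrp.coeff_truncMap, TruncatedWittVector.coeff_mk, hc]

theorem kv_mul (x y : 𝟙_ (Over (Sk k)) ⟶ Wk p k n) : kv (x * y) = kv x + kv y := by
  simp only [kv, WittGrp.pts_mul, map_add]

theorem kv_one : kv (1 : 𝟙_ (Over (Sk k)) ⟶ Wk p k n) = 0 := by
  simp only [kv, WittGrp.pts_one, map_zero]

theorem kv_R (h : n ≤ m) (x : 𝟙_ (Over (Sk k)) ⟶ Wk p k m) :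
    kv (x ≫ WittGrp.R p (Sk k) h) = TruncatedWittVector.truncate h (kv x) := by
  simp only [kv, WittGrp.pts_R, WittGrp.truncMap_truncateLE]

theorem kv_V (h : n ≤ m) (x : 𝟙_ (Over (Sk k)) ⟶ Wk p k n) :
    kv (x ≫ WittGrp.V p (Sk k) h) = WittGrp.shift p h (kv x) := by
  simp only [kv, WittGrp.pts_V, WittGrp.truncMap_shift]

theorem coeff_kv_F (hp : (p : Γ(Sk k, ⊤)) = 0) (x : 𝟙_ (Over (Sk k)) ⟶ Wk p k n) (i : Fin n) :
    (kv (x ≫ WittGrp.F p n (Sk k) hp)).coeff i = (kv x).coeff i ^ p := by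
  rw [kv, kv, WittGrp.pts_F, WittGrp.coeff_truncMap, WittGrp.coeff_frob, map_pow, WittGrp.coeff_truncMap]

section Ext

variable [IsAlgClosed k]

/-- Morphisms from a reduced scheme locally of finite type agree when they agree on `k`-points. -/
theorem hom_ext_pts {X Y : Over (Sk k)} [IsReduced X.left] [LocallyOfFiniteType X.hom] [IsSeparated Y.hom]
    [LocallyOfFiniteType Y.hom] {f g : X ⟶ Y} (h : ∀ x : 𝟙_ (Over (Sk k)) ⟶ X, x ≫ f = x ≫ g) : f = g := by
  refine Over.OverMorphism.ext ?_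
  haveI : LocallyOfFiniteType (f.left ≫ Y.hom) := by rw [Over.w f]; infer_instance
  refine ext_of_apply_eq Y.hom Set.univ isClosed_univ.isLocallyClosed dense_univ (fun x _ hx => ?_)
    ((Over.w f).trans (Over.w g).symm)
  let q : 𝟙_ (Over (Sk k)) ⟶ X := Over.homMk (pointOfClosedPoint X.hom x hx) (pointOfClosedPoint_comp X.hom x hx)
  have hq : q.left (IsLocalRing.closedPoint k) = x := pointOfClosedPoint_apply X.hom x hx _
  rw [← hq]
  exact congrArg (fun z : 𝟙_ (Over (Sk k)) ⟶ Y => z.left (IsLocalRing.closedPoint k)) (h q)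

theorem hom_ext_kv {X : Over (Sk k)} [IsReduced X.left] [LocallyOfFiniteType X.hom] {f g : X ⟶ Wk p k n}
    (h : ∀ x : 𝟙_ (Over (Sk k)) ⟶ X, kv (x ≫ f) = kv (x ≫ g)) : f = g :=
  hom_ext_pts fun x => kv_injective (h x)

/-- A morphism additive on `k`-points is a homomorphism. -/
theorem isMonHom_of_kv (f : Wk p k n ⟶ Wk p k m)
    (h : ∀ x y : 𝟙_ (Over (Sk k)) ⟶ Wk p k n, kv ((x * y) ≫ f) = kv (x ≫ f) + kv (y ≫ f)) : IsMonHom f := by
  haveI : Smooth (Wk p k n).hom := smooth_W p k n
  haveI hs : Smooth (Wk p k n ⊗ Wk p k n).hom := by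
    rw [Over.tensorObj_hom]; infer_instance
  haveI : IsReduced (Wk p k n ⊗ Wk p k n).left := AbSchLib.isReduced_of_smooth (Wk p k n ⊗ Wk p k n).hom
  haveI : LocallyOfFiniteType (Wk p k n ⊗ Wk p k n).hom := by
    rw [Over.tensorObj_hom]; infer_instance
  have hmul : (fst (Wk p k n) (Wk p k n) * snd _ _) ≫ f = (fst _ _ ≫ f) * (snd _ _ ≫ f) := by
    refine hom_ext_kv fun z => ?_
    rw [← Category.assoc, MonObj.comp_mul, MonObj.comp_mul, h, kv_mul, Category.assoc, Category.assoc]
  refine WittGrp.isMonHom_of_comp_mul f ?_ fun T x y => ?_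
  · refine kv_injective ?_
    have h1 := h 1 1
    rw [_root_.one_mul, left_eq_add] at h1
    rw [h1, kv_one]
  · have h2 := lift x y ≫= hmul
    rw [← Category.assoc, MonObj.comp_mul, MonObj.comp_mul, lift_fst, lift_snd, lift_fst_assoc, lift_snd_assoc] at h2
    exact h2

end Ext

section Poly

/-- Evaluation of polynomials as functions on `W_n`. -/
def cev (p : ℕ) [Fact p.Prime] (k : Type u) [Field k] (n : ℕ) :
    MvPolynomial (Fin n) k →+* Γ((Wk p k n).left, ⊤) :=
  MvPolynomial.eval₂Hom ((Scheme.ΓSpecIso (CommRingCat.of k)).inv ≫ (Wk p k n).hom.appTop).hom (WittGrp.coord p)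

theorem bijective_cev : Function.Bijective (cev p k n) := by
  let e := AffineSpace.SpecIso (ULift.{u} (Fin n)) (CommRingCat.of k)
  have hb : Function.Bijective e.hom.appTop.hom := by
    haveI : IsIso (e.hom.app ⊤) := inferInstance
    exact ConcreteCategory.bijective_of_isIso (e.hom.app ⊤)
  let e' := (Scheme.ΓSpecIso (CommRingCat.of (MvPolynomial (ULift.{u} (Fin n)) k)))
  have h : ⇑(cev p k n) = ⇑e.hom.appTop.hom ∘ ⇑e'.inv.hom ∘ ⇑(MvPolynomial.renameEquiv k Equiv.ulift.symm) := by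
    funext Q
    simp only [Function.comp_apply, e]
    rw [AffineSpace.SpecIso_hom_appTop, CommRingCat.comp_apply, ← CommRingCat.comp_apply e'.inv, Iso.inv_hom_id]
    show cev p k n Q = MvPolynomial.eval₂ _ _ (MvPolynomial.rename Equiv.ulift.symm Q)
    rw [MvPolynomial.eval₂_rename]
    rfl
  rw [h]
  exact hb.comp ((ConcreteCategory.bijective_of_isIso e'.inv).comp (AlgEquiv.bijective _))

theorem appTop_cev (x : 𝟙_ (Over (Sk k)) ⟶ Wk p k n) (Q : MvPolynomial (Fin n) k) :
    Γk k (x.left.appTop (cev p k n Q)) = MvPolynomial.eval (fun i => (kv x).coeff i) Q := by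
  have h : (Γk k).comp (x.left.appTop.hom.comp (cev p k n)) =
      MvPolynomial.eval (fun i => (kv x).coeff i) := by
    refine MvPolynomial.ringHom_ext (fun r => ?_) fun i => ?_
    · simp only [RingHom.comp_apply, cev, MvPolynomial.eval₂Hom_C, MvPolynomial.eval_C]
      show Γk k (x.left.appTop ((Wk p k n).hom.appTop ((Scheme.ΓSpecIso (CommRingCat.of k)).inv r))) = r
      rw [← CommRingCat.comp_apply (Wk p k n).hom.appTop x.left.appTop, ← Scheme.Hom.comp_appTop, Over.w x]
      show Γk k ((Scheme.ΓSpecIso (CommRingCat.of k)).inv r) = r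
      exact Iso.inv_hom_id_apply _ _
    · simp only [RingHom.comp_apply, cev, MvPolynomial.eval₂Hom_X', MvPolynomial.eval_X, coeff_kv]
  exact DFunLike.congr_fun h Q

/-- The morphism with prescribed polynomial coordinates. -/
def homOfPoly (P : Fin m → MvPolynomial (Fin n) k) : Wk p k n ⟶ Wk p k m :=
  (WittGrp.ptsMul p _).symm (Multiplicative.ofAdd (TruncatedWittVector.mk p fun i => cev p k n (P i)))

theorem appTop_coord_homOfPoly (P : Fin m → MvPolynomial (Fin n) k) (i : Fin m) :
    (homOfPoly (p := p) P).left.appTop (WittGrp.coord p i) = cev p k n (P i) := by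
  rw [← WittGrp.coeff_pts]
  have h : WittGrp.pts p (Wk p k n) (Additive.ofMul (homOfPoly (p := p) P)) =
      TruncatedWittVector.mk p fun i => cev p k n (P i) := by
    change Multiplicative.toAdd (WittGrp.ptsMul p _ ((WittGrp.ptsMul p _).symm _)) = _
    rw [MulEquiv.apply_symm_apply, toAdd_ofAdd]
  rw [h, TruncatedWittVector.coeff_mk]

theorem coeff_kv_homOfPoly (P : Fin m → MvPolynomial (Fin n) k) (x : 𝟙_ (Over (Sk k)) ⟶ Wk p k n) (i : Fin m) :
    (kv (x ≫ homOfPoly P)).coeff i = MvPolynomial.eval (fun j => (kv x).coeff j) (P i) := by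
  rw [coeff_kv, ← appTop_cev, ← appTop_coord_homOfPoly]
  rfl

/-- Every morphism has polynomial coordinates. -/
theorem exists_poly (f : Wk p k n ⟶ Wk p k m) : ∃ P : Fin m → MvPolynomial (Fin n) k, f = homOfPoly P := by
  choose P hP using fun i => bijective_cev.2 (f.left.appTop (WittGrp.coord p i) : Γ((Wk p k n).left, ⊤))
  refine ⟨P, WittGrp.pts_injective p _ (TruncatedWittVector.ext fun i => ?_)⟩
  simp only [WittGrp.coeff_pts, appTop_coord_homOfPoly, hP]

end Poly

end Groth.Agent.WittPts
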